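import Cfsg.Agent.Lib.Char.CliffordCorr
import Cfsg.Agent.Lib.Char.Kernel
import Cfsg.Agent.Lib.Char.Complete
import Cfsg.Agent.Lib.Transfer.OmegaMetacyclic
import Cfsg.Agent.Lib.Grp.Frattini

/-!
A character of a finite `p`-group, `p` odd, with no fixed vector for any element outside a normal
subgroup on which it is homogeneous: the quotient by that subgroup is cyclic.
-/

namespace Cfsg.Agent.Fus.CaminaFpf

open Subgroup
open scoped ComplexConjugate
open Cfsg Cfsg.Agent.Char

universe u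

/-- No element outside `T0` fixes a nonzero vector. -/
def IsFpfOff {T : Type*} [Group T] (T0 : Subgroup T) (χ : T → ℂ) : Prop :=
  ∀ g : T, g ∉ T0 → ∑ i ∈ Finset.range (orderOf g), χ (g ^ i) = 0

variable {T : Type u} [Group T] [Finite T]

theorem sum_pow_nat {χ : T → ℂ} (h : IsCharacter T χ) (g : T) :
    ∃ n : ℕ, ∑ i ∈ Finset.range (orderOf g), χ (g ^ i) = n := by
  classical
  haveI := Fintype.ofFinite T
  haveI : Fintype (zpowers g) := Fintype.ofFinite _
  obtain ⟨m, hm⟩ := IsChar.classInner_nat (IsChar.res h (zpowers g))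
    (IsIrr.isCharacter (isIrr_one (G := zpowers g)))
  refine ⟨Nat.card (zpowers g) * m, ?_⟩
  simp only [classInner, map_one, mul_one] at hm
  rw [inv_mul_eq_iff_eq_mul₀ (Nat.cast_ne_zero.mpr Nat.card_pos.ne')] at hm
  rw [Nat.cast_mul, ← hm, ← Fin.sum_univ_eq_sum_range]
  exact Fintype.sum_equiv (finEquivZPowers (isOfFinOrder_of_finite g)) _ _ fun i => by
    simp [finEquivZPowers_apply]

/-- Constituents inherit the absence of fixed vectors. -/
theorem sum_pow_constituent [Fintype T] {χ ψ : T → ℂ} (hχ : IsCharacter T χ)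
    (hψ : IsIrrCharacter T ψ) (hc : classInner χ ψ ≠ 0) {g : T}
    (h0 : ∑ i ∈ Finset.range (orderOf g), χ (g ^ i) = 0) :
    ∑ i ∈ Finset.range (orderOf g), ψ (g ^ i) = 0 := by
  classical
  obtain ⟨a, ha, hdec⟩ := IsChar.exists_decomp_inner hχ
  choose n hn using fun φ : IrrCharacter T => sum_pow_nat (IsIrr.isCharacter φ.2) g
  have h1 : ∑ φ : IrrCharacter T, a φ * n φ = 0 := by
    have : ((∑ φ : IrrCharacter T, a φ * n φ : ℕ) : ℂ) = 0 := by
      rw [Nat.cast_sum, ← h0, hdec]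
      simp only [sum_irr_apply]
      rw [Finset.sum_comm]
      exact Finset.sum_congr rfl fun φ _ => by rw [Nat.cast_mul, ← hn φ, Finset.mul_sum]
    exact_mod_cast this
  have h2 := (Finset.sum_eq_zero_iff_of_nonneg fun _ _ => Nat.zero_le _).mp h1 ⟨ψ, hψ⟩
    (Finset.mem_univ _)
  rcases mul_eq_zero.mp h2 with h | h
  · exact absurd ((ha ⟨ψ, hψ⟩).trans (by rw [h, Nat.cast_zero])) hc
  · exact (hn ⟨ψ, hψ⟩).trans (by rw [h, Nat.cast_zero])

theorem IsFpfOff.comp {T0 : Subgroup T} {χ : T → ℂ} (h : IsFpfOff T0 χ) {H : Type*} [Group H]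
    {f : H →* T} (hf : Function.Injective f) : IsFpfOff (T0.comap f) (fun x => χ (f x)) := by
  intro g hg
  have := h (f g) hg
  simpa [orderOf_injective f hf] using this

theorem IsFpfOff.constituent [Fintype T] {T0 : Subgroup T} {χ ψ : T → ℂ} (h : IsFpfOff T0 χ)
    (hχ : IsCharacter T χ) (hψ : IsIrrCharacter T ψ) (hc : classInner χ ψ ≠ 0) :
    IsFpfOff T0 ψ :=
  fun g hg => sum_pow_constituent hχ hψ hc (h g hg)

/-- Constituents of constituents are constituents. -/
theorem constituent_trans [Fintype T] {H : Type u} [Group H] [Fintype H] (f : H →* T)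
    {χ ψ : T → ℂ} {φ : H → ℂ} (hχ : IsCharacter T χ) (hψ : IsIrrCharacter T ψ)
    (hc : classInner χ ψ ≠ 0) (hφ : IsIrrCharacter H φ)
    (hc' : classInner (fun x => ψ (f x)) φ ≠ 0) : classInner (fun x => χ (f x)) φ ≠ 0 := by
  classical
  obtain ⟨a, ha, hdec⟩ := IsChar.exists_decomp_inner hχ
  choose n hn using fun σ : IrrCharacter T =>
    IsChar.classInner_nat (IsChar.comp f (IsIrr.isCharacter σ.2)) (IsIrr.isCharacter hφ)
  have h1 : (fun x => χ (f x)) = ∑ σ : IrrCharacter T, (a σ : ℂ) • fun x => (σ : T → ℂ) (f x) := by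
    funext x
    rw [hdec, sum_irr_apply]
    simp
  intro h0
  rw [h1, classInner_sum_left] at h0
  have h2 : ∑ σ : IrrCharacter T, a σ * n σ = 0 := by
    have : ((∑ σ : IrrCharacter T, a σ * n σ : ℕ) : ℂ) = 0 := by
      rw [Nat.cast_sum, ← h0]
      exact Finset.sum_congr rfl fun σ _ => by rw [classInner_smul_left, hn σ, Nat.cast_mul]
    exact_mod_cast this
  have h3 := (Finset.sum_eq_zero_iff_of_nonneg fun _ _ => Nat.zero_le _).mp h2 ⟨ψ, hψ⟩
    (Finset.mem_univ _)
  rcases mul_eq_zero.mp h3 with h | h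
  · exact hc ((ha ⟨ψ, hψ⟩).trans (by rw [h, Nat.cast_zero]))
  · exact hc' ((hn ⟨ψ, hψ⟩).trans (by rw [h, Nat.cast_zero]))

/-- A character with one constituent is a multiple of it. -/
theorem eq_mul_of_unique [Fintype T] {χ θ : T → ℂ} (hχ : IsCharacter T χ)
    (hθ : IsIrrCharacter T θ)
    (h : ∀ φ, IsIrrCharacter T φ → classInner χ φ ≠ 0 → φ = θ) :
    ∀ t, χ t = classInner χ θ * θ t := by
  classical
  obtain ⟨a, ha, hdec⟩ := IsChar.exists_decomp_inner hχ
  intro t
  rw [ha ⟨θ, hθ⟩]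
  conv_lhs => rw [hdec, sum_irr_apply]
  refine Finset.sum_eq_single (⟨θ, hθ⟩ : IrrCharacter T) (fun φ _ hne => ?_)
    (fun h => absurd (Finset.mem_univ _) h)
  have h0 : classInner χ (φ : T → ℂ) = 0 := by_contra fun hh => hne (Subtype.ext (h φ φ.2 hh))
  rw [← ha φ, h0, zero_mul]

/-- A constituent over an invariant character restricts to a multiple of it. -/
theorem exists_over [Fintype T] {χ : T → ℂ} (hχ : IsCharacter T χ) {E : Subgroup T} [E.Normal]
    [Fintype E] {l : E → ℂ} (hl : IsIrrCharacter E l)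
    (hne : classInner (fun x : E => χ x) l ≠ 0) {H : Subgroup T} [Fintype H] (hEH : E ≤ H)
    (hH : H ≤ inertia E l) :
    ∃ ψ : H → ℂ, IsIrrCharacter H ψ ∧ classInner (fun x : H => χ x) ψ ≠ 0 ∧
      classInner (fun x : E => ψ ⟨x, hEH x.2⟩) l ≠ 0 ∧
      ∃ m : ℂ, ∀ x : E, ψ ⟨x, hEH x.2⟩ = m * l x := by
  classical
  obtain ⟨a, ha, hdec⟩ := IsChar.exists_decomp_inner (IsChar.res hχ H)
  have h1 : (fun x : E => χ x) = ∑ φ : IrrCharacter H,
      (a φ : ℂ) • fun x : E => (φ : H → ℂ) ⟨(x : T), hEH x.2⟩ := by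
    funext x
    have := congrFun hdec ⟨(x : T), hEH x.2⟩
    rw [sum_irr_apply] at this
    rw [this]
    simp
  rw [h1, classInner_sum_left] at hne
  obtain ⟨ψ, -, hψ⟩ := Finset.exists_ne_zero_of_sum_ne_zero hne
  rw [classInner_smul_left, mul_ne_zero_iff] at hψ
  refine ⟨ψ, ψ.2, by rw [ha ψ]; exact hψ.1, hψ.2, ?_⟩
  haveI : (E.subgroupOf H).Normal := Subgroup.Normal.subgroupOf inferInstance _
  haveI : Fintype (E.subgroupOf H) := Fintype.ofFinite _
  set lH : E.subgroupOf H → ℂ := fun x => l ⟨((x : H) : T), x.2⟩ with hlH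
  have hlHi : IsIrrCharacter (E.subgroupOf H) lH :=
    IsIrr.comp_mulEquiv (subgroupOfEquivOfLe hEH) hl
  have hfix : ∀ t : H, conjN (E.subgroupOf H) t lH = lH := fun t => funext fun x => by
    have h := congrFun ((mem_inertia E).mp (hH t.2)) ⟨((x : H) : T), x.2⟩
    simpa [conjN, lH] using h
  have horb : conjOrbit (E.subgroupOf H) lH = {lH} := by
    ext φ
    rw [mem_conjOrbit, Finset.mem_singleton]
    exact ⟨fun ⟨g, hg⟩ => by rw [← hg, hfix], fun h => ⟨1, by rw [h, hfix]⟩⟩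
  have he : classInner (fun x : E.subgroupOf H => (ψ : H → ℂ) x) lH =
      classInner (fun x : E => (ψ : H → ℂ) ⟨x, hEH x.2⟩) l :=
    Corr.classInner_subgroupOf E hEH (fun x : E => (ψ : H → ℂ) ⟨x, hEH x.2⟩) l
  have hcl := clifford (E.subgroupOf H) ψ.2 hlHi (he.symm ▸ hψ.2)
  rw [horb, Finset.sum_singleton] at hcl
  exact ⟨_, fun x => congrFun hcl ⟨⟨(x : T), hEH x.2⟩, x.2⟩⟩

/-- An irreducible character trivial on `K`, the quotient by which is abelian, is linear. -/
theorem exists_linear {E : Subgroup T} {l : E → ℂ} (hl : IsIrrCharacter E l) {Q : Type u}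
    [Group Q] (π : T →* Q) (hπ : ∀ a ∈ E, ∀ b ∈ E, π a * π b = π b * π a)
    (hker : ∀ x : E, π x = 1 → l x = l 1) : ∃ f : E →* ℂˣ, l = fun x => (f x : ℂ) := by
  let φ := (π.comp E.subtype).rangeRestrict
  obtain ⟨ψ, hψ, hψl⟩ := IsIrr.exists_factor hl φ (MonoidHom.rangeRestrict_surjective _)
    fun x hx => hker x (congrArg Subtype.val hx)
  refine linearHom_of_isCharacter (IsIrr.isCharacter hl) ?_
  rw [← hψl, map_one]
  refine IsIrr.one_of_comm ?_ hψ
  rintro ⟨_, a, rfl⟩ ⟨_, b, rfl⟩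
  exact Subtype.ext (hπ a a.2 b b.2)

/-- A linear character trivial on `K` has a zero off `K` in an elementary `p ^ 2` section. -/
theorem exists_not_mem_ker {p : ℕ} [hp : Fact p.Prime] {K : Subgroup T} [K.Normal]
    {A : Subgroup (T ⧸ K)} (hA : Cfsg.IsElementaryAbelian p A) (hAc : Nat.card A = p ^ 2)
    (f : A.comap (QuotientGroup.mk' K) →* ℂˣ)
    (hf : ∀ x : A.comap (QuotientGroup.mk' K), (x : T) ∈ K → f x = 1) :
    ∃ x : A.comap (QuotientGroup.mk' K), (x : T) ∉ K ∧ f x = 1 := by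
  classical
  by_contra hno
  push Not at hno
  have hpow : ∀ x : A.comap (QuotientGroup.mk' K), f x ^ p = 1 := fun x => by
    rw [← map_pow]
    refine hf _ ((QuotientGroup.eq_one_iff _).mp ?_)
    have h := hA.2 _ x.2
    simpa using h
  have hrange : Nat.card f.range ≤ p := by
    calc Nat.card f.range ≤ Nat.card (rootsOfUnity p ℂ) :=
          card_le_of_le fun _ ⟨x, hx⟩ => hx ▸ hpow x
      _ ≤ p := card_rootsOfUnity ℂ p
  have hker : Nat.card f.ker ≤ Nat.card K := Nat.card_le_card_of_injective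
    (fun x => (⟨((x : A.comap (QuotientGroup.mk' K)) : T), by_contra fun h => hno x h x.2⟩ : K))
    fun x y e => Subtype.ext (Subtype.ext (congrArg Subtype.val e :))
  have h1 : Nat.card (A.comap (QuotientGroup.mk' K)) = Nat.card K * p ^ 2 := by
    have h2 := ((QuotientGroup.mk' K).comp
      (A.comap (QuotientGroup.mk' K)).subtype).ker.card_mul_index
    rw [index_ker, MonoidHom.range_comp, range_subtype,
      map_comap_eq_self_of_surjective (QuotientGroup.mk'_surjective K), hAc] at h2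
    rw [← h2]
    congr 1
    exact Nat.card_congr
      { toFun := fun x => ⟨x.1.1, (QuotientGroup.eq_one_iff _).mp x.2⟩
        invFun := fun k => ⟨⟨k.1, by
            rw [mem_comap, QuotientGroup.mk'_apply, (QuotientGroup.eq_one_iff _).mpr k.2]
            exact one_mem A⟩, (QuotientGroup.eq_one_iff _).mpr k.2⟩
        left_inv := fun x => rfl
        right_inv := fun k => rfl }
  have h3 : Nat.card (A.comap (QuotientGroup.mk' K)) ≤ Nat.card K * p := by
    rw [← f.ker.card_mul_index, index_ker]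
    exact Nat.mul_le_mul hker hrange
  rw [h1] at h3
  have h4 := Nat.le_of_mul_le_mul_left h3 Nat.card_pos
  nlinarith [hp.out.two_le]

/-- An element acting as a scalar in a homogeneous restriction, with a fixed vector, is in the
kernel. -/
theorem eq_one_of_scalar {T0 : Subgroup T} {χ : T → ℂ} (hχ : IsCharacter T χ) {θ : T0 → ℂ}
    (hθ : IsIrrCharacter T0 θ) {a : ℂ} (ha : ∀ t : T0, χ t = a * θ t) (ha0 : a ≠ 0) {e : T}
    (he : e ∈ T0) (hcomm : ∀ t ∈ T0, χ (t * e * t⁻¹ * e⁻¹) = χ 1)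
    (hsum : ∑ i ∈ Finset.range (orderOf e), χ (e ^ i) ≠ 0) : χ e = χ 1 := by
  obtain ⟨n, ρ, hρ, hθρ⟩ := hθ
  haveI := hρ
  set e0 : T0 := ⟨e, he⟩
  have hc : ∀ t, ρ e0 ∘ₗ ρ t = ρ t ∘ₗ ρ e0 := fun t => by
    have h1 : θ (t * e0 * t⁻¹ * e0⁻¹) = θ 1 := by
      have h2 := hcomm t t.2
      rw [show χ 1 = χ ((1 : T0) : T) from rfl,
        show χ ((t : T) * e * (t : T)⁻¹ * e⁻¹) = χ ((t * e0 * t⁻¹ * e0⁻¹ : T0) : T) from rfl,
        ha, ha] at h2
      exact mul_left_cancel₀ ha0 h2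
    rw [← hθρ, Representation.char_one, character_eq_finrank_iff, ← Module.End.one_eq_id] at h1
    have h3 : t * e0 = (t * e0 * t⁻¹ * e0⁻¹) * (e0 * t) := by group
    show ρ e0 * ρ t = ρ t * ρ e0
    conv_rhs => rw [← map_mul, h3, map_mul, h1, one_mul]
    rw [map_mul]
  obtain ⟨c, hcs⟩ := schur_scalar ρ _ hc
  have hpow : ∀ i : ℕ, χ (e ^ i) = χ 1 * c ^ i := fun i => by
    rw [show χ (e ^ i) = χ ((e0 ^ i : T0) : T) by simp [e0], show χ 1 = χ ((1 : T0) : T) from rfl,
      ha, ha, ← hθρ, Representation.char_one]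
    rw [Representation.character, map_pow, hcs, ← Module.End.one_eq_id, smul_pow, one_pow,
      map_smul, Module.End.one_eq_id, LinearMap.trace_id, smul_eq_mul]
    ring
  rw [Finset.sum_congr rfl fun i _ => hpow i, ← Finset.mul_sum] at hsum
  have h1 := hpow (orderOf e)
  rw [pow_orderOf_eq_one] at h1
  have hχ0 := (mul_ne_zero_iff.mp hsum).1
  have hcn : c ^ orderOf e = 1 := ((mul_eq_left₀ hχ0).mp h1.symm)
  have h2 := geom_sum_mul c (orderOf e)
  rw [hcn, sub_self] at h2
  have hc1 : c = 1 := sub_eq_zero.mp ((mul_eq_zero.mp h2).resolve_left (mul_ne_zero_iff.mp hsum).2)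
  simpa [hc1] using hpow 1

/-- No fixed vectors off `T0` and homogeneous on it: `T ⧸ T0` is cyclic. -/
theorem isCyclic_of_fpf {p : ℕ} [hp : Fact p.Prime] (hp2 : p ≠ 2) :
    ∀ (n : ℕ) (T : Type u) [Group T] [Finite T], Nat.card T = n → IsPGroup p T →
      ∀ (T0 : Subgroup T) [T0.Normal] (χ : T → ℂ), IsCharacter T χ → χ 1 ≠ 0 →
        IsFpfOff T0 χ → ∀ θ : T0 → ℂ, IsIrrCharacter T0 θ → ∀ a : ℂ,
          (∀ t : T0, χ t = a * θ t) → IsCyclic (T ⧸ T0) := by
  intro n
  induction n using Nat.strong_induction_on with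
  | _ n IH =>
  intro T _ _ hn hT T0 _ χ hχ hχ1 hfpf θ hθ a ha
  classical
  by_contra hnc
  haveI := Fintype.ofFinite T
  have ha0 : a ≠ 0 := fun h => hχ1 (by
    rw [show χ 1 = χ ((1 : T0) : T) from rfl, ha, h, zero_mul])
  set K := charKer hχ with hKdef
  haveI hKn : K.Normal := charKer_normal hχ
  have hK : ∀ g, g ∈ K ↔ χ g = χ 1 := fun g => mem_charKer hχ
  have hKT0 : K ≤ T0 := fun g hg => by
    by_contra hgT
    have h := hfpf g hgT
    rw [Finset.sum_congr rfl fun i _ => (hK _).mp (K.pow_mem hg i), Finset.sum_const,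
      Finset.card_range, nsmul_eq_mul] at h
    exact hχ1 ((mul_eq_zero.mp h).resolve_left (Nat.cast_ne_zero.mpr (orderOf_pos g).ne'))
  set π := QuotientGroup.mk' K with hπdef
  haveI hT0K : (T0.map π).Normal := Subgroup.Normal.map ‹_› π (QuotientGroup.mk'_surjective K)
  have hTK : ¬ IsCyclic (T ⧸ K) := fun h => hnc (isCyclic_of_surjective
    (QuotientGroup.map K T0 (MonoidHom.id T) hKT0) fun y => by
      obtain ⟨t, rfl⟩ := QuotientGroup.mk'_surjective T0 y
      exact ⟨t, rfl⟩)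
  -- the data below a normal elementary section of order `p ^ 2`
  have hdata : ∀ A : Subgroup (T ⧸ K), A.Normal → Cfsg.IsElementaryAbelian p A →
      ∃ l : A.comap π → ℂ, IsIrrCharacter (A.comap π) l ∧
        (∀ [Fintype (A.comap π)], classInner (fun x : A.comap π => χ x) l ≠ 0) ∧
        ∃ f : A.comap π →* ℂˣ, l = (fun x => (f x : ℂ)) ∧ ∀ x : A.comap π, (x : T) ∈ K → f x = 1 := by
    intro A hAn hA
    haveI := Fintype.ofFinite (A.comap π)
    obtain ⟨⟨l, hl⟩, hlc⟩ := IsChar.exists_constituent'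
      (IsChar.res hχ (A.comap π)) (χ := fun x : A.comap π => χ x) hχ1
    have hker : ∀ x : A.comap π, π x = 1 → l x = l 1 := fun x hx =>
      constituent_ker (IsChar.res hχ _) hl hlc ((hK x).mp ((QuotientGroup.eq_one_iff _).mp hx))
    obtain ⟨f, hf⟩ := exists_linear hl π (fun x hx y hy =>
      congrArg Subtype.val (hA.1.is_comm.comm ⟨π x, hx⟩ ⟨π y, hy⟩)) hker
    refine ⟨l, hl, fun {inst} => by convert hlc, f, hf, fun x hx => Units.ext ?_⟩
    have h := hker x ((QuotientGroup.eq_one_iff _).mpr hx)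
    simpa [hf] using h
  by_cases hcyc : IsCyclic (T0.map π)
  · obtain ⟨A, -, hAn, hA, hAc⟩ := Transfer.exists_normal_elementary hp2 (hT.to_quotient K) ⊤
      fun h => hTK (Subgroup.topEquiv.isCyclic.mp h)
    obtain ⟨l, hl, hlc, f, hf, hfK⟩ := hdata A hAn hA
    haveI := Fintype.ofFinite (A.comap π)
    obtain ⟨e, heK, hfe⟩ := exists_not_mem_ker hA hAc f hfK
    have hsum : ∑ i ∈ Finset.range (orderOf (e : T)), χ ((e : T) ^ i) ≠ 0 := fun h0 => by
      have h1 : ∑ i ∈ Finset.range (orderOf e), (fun x : A.comap π => χ x) (e ^ i) = 0 := by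
        simpa [Subgroup.orderOf_coe] using h0
      have h2 := sum_pow_constituent (IsChar.res hχ _) hl hlc h1
      simp [hf, hfe, (orderOf_pos e).ne'] at h2
    have heT0 : (e : T) ∈ T0 := by_contra fun h => hsum (hfpf _ h)
    have hcen : π (e : T) ∈ center (T ⧸ K) := by
      haveI := hAn
      haveI := (hT.to_quotient K).isNilpotent
      set W := A ⊓ T0.map π
      have heW : π (e : T) ∈ W := ⟨e.2, mem_map_of_mem π heT0⟩
      have hne1 : π (e : T) ≠ 1 := fun h => heK ((QuotientGroup.eq_one_iff _).mp h)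
      haveI : IsCyclic W := isCyclic_of_injective (Subgroup.inclusion (inf_le_right : W ≤ T0.map π))
        (Subgroup.inclusion_injective _)
      obtain ⟨w, hw⟩ := IsCyclic.exists_generator (α := W)
      have hWp : Nat.card W = p := by
        have hw' : zpowers w = ⊤ := eq_top_iff.mpr fun x _ => hw x
        have hdvd : Nat.card W ∣ p := by
          rw [← Nat.card_congr Subgroup.topEquiv.toEquiv, ← hw', Nat.card_zpowers]
          exact orderOf_dvd_of_pow_eq_one (Subtype.ext (hA.2 _ w.2.1))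
        refine (hp.out.eq_one_or_self_of_dvd _ hdvd).resolve_left fun h1 => hne1 ?_
        have := (Subgroup.card_eq_one.mp h1).le heW
        simpa using this
      have hW : W ⊓ center (T ⧸ K) = W := by
        refine eq_of_le_of_card_ge inf_le_left ?_
        have hd := Subgroup.card_dvd_of_le (inf_le_left : W ⊓ center (T ⧸ K) ≤ W)
        rw [hWp] at hd ⊢
        rcases hp.out.eq_one_or_self_of_dvd _ hd with h1 | h1
        · exact absurd (Subgroup.card_eq_one.mp h1)
            (Grp.inf_center_ne_bot W fun hb => hne1 (by simpa [hb] using heW))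
        · exact h1.ge
      exact (inf_eq_left.mp hW) heW
    refine heK ((hK _).mpr (eq_one_of_scalar hχ hθ ha ha0 heT0 (fun t _ => (hK _).mp ?_) hsum))
    rw [← QuotientGroup.eq_one_iff]
    have h := mem_center_iff.mp hcen (π t)
    simp only [hπdef, QuotientGroup.mk'_apply] at h
    simp only [QuotientGroup.mk_mul, QuotientGroup.mk_inv]
    rw [h]; group
  obtain ⟨A, hAle, hAn, hA, hAc⟩ :=
    Transfer.exists_normal_elementary hp2 (hT.to_quotient K) (T0.map π) hcyc
  set E := A.comap π with hEdef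
  obtain ⟨l, hl, hlc, f, hf, hfK⟩ :
      ∃ l : E → ℂ, IsIrrCharacter E l ∧
        (∀ [Fintype E], classInner (fun x : E => χ x) l ≠ 0) ∧
        ∃ f : E →* ℂˣ, l = (fun x => (f x : ℂ)) ∧ ∀ x : E, (x : T) ∈ K → f x = 1 := hdata A hAn hA
  haveI : E.Normal := hAn.comap π
  haveI := Fintype.ofFinite E
  have hET0 : E ≤ T0 := fun x hx => by
    obtain ⟨t, ht, htx⟩ := hAle hx
    have : t⁻¹ * x ∈ K := QuotientGroup.eq.mp htx
    simpa using T0.mul_mem ht (hKT0 this)
  haveI := Fintype.ofFinite T0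
  set E0 := E.subgroupOf T0 with hE0
  haveI : E0.Normal := Subgroup.Normal.subgroupOf inferInstance _
  haveI : Fintype E0 := Fintype.ofFinite _
  set l0 : E0 → ℂ := fun x => l ⟨((x : T0) : T), x.2⟩ with hl0
  have hl0i : IsIrrCharacter E0 l0 := IsIrr.comp_mulEquiv (subgroupOfEquivOfLe hET0) hl
  have hχE0 : ∀ (m : E → ℂ), classInner (fun x : E => χ x) m =
      a * classInner (fun x : E0 => θ x) (fun x : E0 => m ⟨((x : T0) : T), x.2⟩) := fun m => by
    rw [← Corr.classInner_subgroupOf E hET0 (fun x : E => χ x) m, ← classInner_smul_left]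
    congr 1
    exact funext fun x => ha x
  have hlc0 : classInner (fun x : E0 => θ x) l0 ≠ 0 := fun h => hlc (by
    rw [hχE0 l, ← hl0, h, mul_zero])
  set I := inertia E l with hI
  have hEI : E ≤ I := le_inertia E (IsIrr.classFun hl)
  -- the inertia group covers the quotient
  have hcov : ∀ t : T, ∃ i ∈ I, i⁻¹ * t ∈ T0 := fun t => by
    have h1 : classInner (fun x : E0 => θ x) (fun x : E0 => conjN E t l ⟨((x : T0) : T), x.2⟩) ≠ 0 :=
      fun h => hlc (by
        rw [← classInner_res_conjN E (IsChar.classFun hχ) l t, hχE0, h, mul_zero])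
    have h2 : IsIrrCharacter E0 (fun x : E0 => conjN E t l ⟨((x : T0) : T), x.2⟩) :=
      IsIrr.comp_mulEquiv (subgroupOfEquivOfLe hET0) (IsIrr.conjN E hl t)
    obtain ⟨s, hs⟩ := exists_conj_of_constituents E0 hθ hl0i h2 hlc0 h1
    refine ⟨t * (s : T)⁻¹, (mem_inertia E).mpr ?_, by simp⟩
    rw [conjN_mul]
    have h3 : conjN E (s : T) l = conjN E t l := funext fun x => by
      have := congrFun hs ⟨⟨(x : T), hET0 x.2⟩, x.2⟩
      simpa [conjN, l0] using this
    rw [← h3, conjN_inv_cancel]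
  have hI1 : I ≠ ⊤ := fun htop => by
    obtain ⟨e, heK, hfe⟩ := exists_not_mem_ker hA hAc f hfK
    refine heK ((hK _).mpr ?_)
    have horb : conjOrbit E0 l0 = {l0} := by
      have hfix : ∀ s : T0, conjN E0 s l0 = l0 := fun s => funext fun x => by
        have h := congrFun ((mem_inertia E).mp (show (s : T) ∈ I by rw [htop]; trivial))
          ⟨((x : T0) : T), x.2⟩
        simpa [conjN, l0] using h
      ext φ
      rw [mem_conjOrbit, Finset.mem_singleton]
      exact ⟨fun ⟨g, hg⟩ => by rw [← hg, hfix], fun h => ⟨1, by rw [h, hfix]⟩⟩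
    have hcl := clifford E0 hθ hl0i hlc0
    rw [horb, Finset.sum_singleton] at hcl
    have h1 := congrFun hcl ⟨⟨(e : T), hET0 e.2⟩, e.2⟩
    have h2 := congrFun hcl 1
    rw [show χ (e : T) = χ ((⟨(e : T), hET0 e.2⟩ : T0) : T) from rfl,
      show χ 1 = χ ((1 : T0) : T) from rfl, ha, ha]
    simp only [Pi.smul_apply, smul_eq_mul] at h1 h2
    rw [h1, show θ 1 = _ from h2]
    congr 2
    show l ⟨(e : T), _⟩ = l 1
    rw [hf]
    show ((f e : ℂˣ) : ℂ) = ((f 1 : ℂˣ) : ℂ)
    rw [hfe, map_one]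
  haveI := Fintype.ofFinite I
  obtain ⟨ψ, hψ, hψχ, hψl, m, hψE⟩ := exists_over hχ hl hlc hEI le_rfl
  set J := inertia E0 l0 with hJ
  have hJI : ∀ s : T0, s ∈ J ↔ (s : T) ∈ I := fun s => by
    rw [hJ, hI, mem_inertia, mem_inertia]
    constructor <;> intro h <;> funext x
    · simpa [conjN, l0] using congrFun h ⟨⟨(x : T), hET0 x.2⟩, x.2⟩
    · simpa [conjN, l0] using congrFun h ⟨((x : T0) : T), x.2⟩
  have hEJ : E0 ≤ J := le_inertia E0 (IsIrr.classFun hl0i)
  haveI := Fintype.ofFinite J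
  obtain ⟨ψ0, hψ0, hind, hψ0l⟩ := Corr.exists_correspondent E0 hl0i hJ hEJ hθ hlc0
  have hθψ0 : classInner (fun x : J => θ x) ψ0 ≠ 0 := by
    have h := classInner_self_irr hθ
    conv_lhs at h => arg 1; rw [← hind]
    rw [classInner_indFun J ψ0 (IsIrr.classFun hθ)] at h
    rw [← classInner_conj_symm, Ne, map_eq_zero, h]
    exact one_ne_zero
  obtain ⟨-, -, huniq⟩ := Corr.core E0 hl0i hJ hEJ hψ0 (by rw [hψ0l]; exact hlc0) hθ hθψ0
  let j : J →* I :=
    { toFun := fun x => ⟨((x : T0) : T), (hJI _).mp x.2⟩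
      map_one' := rfl
      map_mul' := fun _ _ => rfl }
  have hfJ : IsCharacter J (fun x => ψ (j x)) := IsChar.comp j (IsIrr.isCharacter hψ)
  have hall : ∀ φ, IsIrrCharacter J φ → classInner (fun x => ψ (j x)) φ ≠ 0 → φ = ψ0 := by
    intro φ hφ hφc
    refine huniq φ hφ ?_ ?_
    · have h1 := constituent_trans j (IsChar.res hχ I) hψ hψχ hφ hφc
      intro h0
      refine h1 ?_
      have e1 : (fun x : J => χ ((j x : I) : T)) = a • fun x : J => θ x :=
        funext fun x => ha x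
      rw [e1, classInner_smul_left, h0, mul_zero]
    · obtain ⟨n, hn0, hn⟩ := IsIrr.one_eq_pos hφ
      have hres : IsCharacter E0 (fun x : E0 => φ ⟨(x : T0), hEJ x.2⟩) :=
        IsChar.comp (Subgroup.inclusion hEJ) (IsIrr.isCharacter hφ)
      obtain ⟨⟨μ, hμ⟩, hμc⟩ := IsChar.exists_constituent' hres (IsIrr.one_ne_zero hφ)
      have h2 := constituent_trans (Subgroup.inclusion hEJ) hfJ hφ hφc hμ hμc
      have e2 : (fun x : E0 => ψ (j (Subgroup.inclusion hEJ x))) = m • l0 :=
        funext fun x => hψE ⟨((x : T0) : T), x.2⟩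
      rw [e2, classInner_smul_left] at h2
      have : μ = l0 := by
        by_contra hne
        exact h2 (by rw [classInner_irr_ne hl0i hμ (Ne.symm hne), mul_zero])
      exact this ▸ hμc
  have hmul := eq_mul_of_unique hfJ hψ0 hall
  haveI : (T0.subgroupOf I).Normal := Subgroup.Normal.subgroupOf inferInstance _
  let ι : T0.subgroupOf I ≃* J :=
    { toFun := fun x => ⟨⟨((x : I) : T), x.2⟩, (hJI _).mpr (x : I).2⟩
      invFun := fun y => ⟨⟨((y : T0) : T), (hJI _).mp y.2⟩, (y : T0).2⟩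
      left_inv := fun _ => rfl
      right_inv := fun _ => rfl
      map_mul' := fun _ _ => rfl }
  have hrec : IsCyclic (I ⧸ T0.subgroupOf I) := by
    refine IH _ ?_ I rfl (hT.to_subgroup I) (T0.subgroupOf I) ψ (IsIrr.isCharacter hψ)
      (IsIrr.one_ne_zero hψ) ((hfpf.comp I.subtype_injective).constituent (IsChar.res hχ I) hψ hψχ)
      (fun x => ψ0 (ι x)) (IsIrr.comp_mulEquiv ι hψ0) _ fun t => hmul (ι t)
    rw [← hn]
    refine lt_of_le_of_ne (Subgroup.card_le_card_group I) fun e => hI1 ?_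
    exact eq_top_of_card_eq I e
  refine hnc (isCyclic_of_surjective
    (QuotientGroup.map (T0.subgroupOf I) T0 I.subtype le_rfl) fun y => ?_)
  obtain ⟨t, rfl⟩ := QuotientGroup.mk'_surjective T0 y
  obtain ⟨i, hi, hit⟩ := hcov t
  exact ⟨((⟨i, hi⟩ : I) : I ⧸ T0.subgroupOf I), QuotientGroup.eq.mpr hit⟩

end Cfsg.Agent.Fus.CaminaFpf
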