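import Cfsg.Agent.Lib.Fus.CaminaPairBasic
import Cfsg.Agent.Lib.Char.CliffordCorr
import Cfsg.Agent.Lib.Char.Perm
import Cfsg.Agent.Lib.Transfer.MaxAbelianExponent

/-!
Camina pairs `(P, P0)` with `P` a `p`-group and `P ⧸ P0` noncyclic: a character of a normal
subgroup below `P0` never has an inertia group with cyclic image in `P ⧸ P0`.
-/

namespace Cfsg.Agent.Fus.CaminaFpf

open Subgroup
open scoped ComplexConjugate commutatorElement
open Cfsg Cfsg.Agent.Char Cfsg.Agent.Fus

universe u

variable {P : Type u} [Group P] [Finite P]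

theorem card_eq_inf_mul_map (P0 : Subgroup P) [P0.Normal] (H : Subgroup P) :
    Nat.card H = Nat.card (H ⊓ P0 : Subgroup P) * Nat.card (H.map (QuotientGroup.mk' P0)) := by
  have h1 := ((QuotientGroup.mk' P0).comp H.subtype).ker.card_mul_index
  rw [index_ker, MonoidHom.range_comp, range_subtype] at h1
  have h2 : Nat.card ((QuotientGroup.mk' P0).comp H.subtype).ker
      = Nat.card (H ⊓ P0 : Subgroup P) := by
    refine Nat.card_congr
      { toFun := fun x => ⟨x.1.1, x.1.2, (QuotientGroup.eq_one_iff _).mp x.2⟩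
        invFun := fun y => ⟨⟨y.1, y.2.1⟩, (QuotientGroup.eq_one_iff _).mpr y.2.2⟩
        left_inv := fun x => rfl
        right_inv := fun y => rfl }
  rw [← h1, h2]

/-- Conjugation by `x` fixes no more classes of `B` than the image centralizer allows. -/
theorem fixed_irr_le {P0 : Subgroup P} [P0.Normal] (hC : IsCamina P0) {B : Subgroup P} [B.Normal]
    (hB : B ≤ P0) {x : P} (hx : x ∉ P0) :
    orderOf (x : P ⧸ P0) * Nat.card {θ : IrrCharacter B // conjN B x (θ : B → ℂ) = θ}
      ≤ Nat.card (centralizer ({(x : P ⧸ P0)} : Set (P ⧸ P0))) := by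
  classical
  haveI := Fintype.ofFinite P
  haveI := Fintype.ofFinite B
  set e := conjEquivN B x with he
  let f : IrrCharacter B → IrrCharacter B := fun θ => ⟨conjN B x θ, IsIrr.conjN B θ.2 x⟩
  let φ : ConjClasses B → ConjClasses B := ConjClasses.map e.toMonoidHom
  have hbp := brauer_perm f φ fun χ g g' hgg' => by
    have h1 : IsConj g' (e g) := ConjClasses.mk_eq_mk_iff_isConj.mp hgg'
    obtain ⟨c, hc⟩ := isConj_iff.mp h1
    show conjN B x (χ : B → ℂ) g = (χ : B → ℂ) g'
    rw [conjN_eq_comp]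
    show (χ : B → ℂ) (e g) = _
    rw [← hc]
    exact IsIrr.classFun χ.2 g' c
  have hfix : Nat.card {θ : IrrCharacter B // conjN B x (θ : B → ℂ) = θ}
      = Nat.card {θ : IrrCharacter B // f θ = θ} :=
    Nat.card_congr (Equiv.subtypeEquivRight fun θ =>
      ⟨fun h => Subtype.ext h, fun h => congrArg Subtype.val h⟩)
  rw [hfix, hbp]
  -- a fixed class has as many witnesses as its centralizer
  have hwit : ∀ b : B, (if φ (ConjClasses.mk b) = ConjClasses.mk b then
      (Nat.card (centralizer ({b} : Set B)) : ℂ) else 0)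
        = (Nat.card {u : B // e b = u * b * u⁻¹} : ℂ) := by
    intro b
    by_cases hb : φ (ConjClasses.mk b) = ConjClasses.mk b
    · rw [if_pos hb]
      obtain ⟨c, hc⟩ := isConj_iff.mp (ConjClasses.mk_eq_mk_iff_isConj.mp hb.symm)
      change c * b * c⁻¹ = e b at hc
      congr 1
      refine Nat.card_congr
        { toFun := fun z => ⟨c * z, ?_⟩
          invFun := fun u => ⟨c⁻¹ * u, ?_⟩
          left_inv := fun z => Subtype.ext (by simp)
          right_inv := fun u => Subtype.ext (by simp) }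
      · have hz := mem_centralizer_singleton_iff.mp z.2
        calc e b = c * b * c⁻¹ := hc.symm
          _ = c * (b * (z : B)) * ((z : B))⁻¹ * c⁻¹ := by group
          _ = c * ((z : B) * b) * ((z : B))⁻¹ * c⁻¹ := by rw [hz]
          _ = _ := by group
      · refine mem_centralizer_singleton_iff.mpr ?_
        have h : c * b * c⁻¹ = (u : B) * b * (u : B)⁻¹ := hc.trans u.2
        calc c⁻¹ * (u : B) * b = c⁻¹ * ((u : B) * b * (u : B)⁻¹) * u := by group
          _ = c⁻¹ * (c * b * c⁻¹) * u := by rw [← h]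
          _ = _ := by group
    · rw [if_neg hb]
      haveI : IsEmpty {u : B // e b = u * b * u⁻¹} := ⟨fun u =>
        hb (ConjClasses.mk_eq_mk_iff_isConj.mpr (isConj_iff.mpr ⟨(u.1)⁻¹, by
          show (u.1)⁻¹ * e b * (u.1)⁻¹⁻¹ = b
          exact (congrArg (fun w => (u.1)⁻¹ * w * (u.1)⁻¹⁻¹) u.2).trans (by group)⟩))⟩
      simp
  have hsum := sum_centralizer_card (G := B) (fun C => φ C = C)
  rw [Finset.sum_congr rfl fun b _ => hwit b] at hsum
  have hswap : ∑ b : B, Nat.card {u : B // e b = u * b * u⁻¹}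
      = ∑ u : B, Nat.card {b : B // e b = u * b * u⁻¹} := by
    simp only [Nat.card_eq_fintype_card, Fintype.card_subtype, Finset.card_filter]
    exact Finset.sum_comm
  have hN : ∑ u : B, Nat.card {b : B // e b = u * b * u⁻¹}
      = Nat.card B * Nat.card {C : ConjClasses B // φ C = C} := by
    rw [← hswap]
    exact_mod_cast hsum
  -- each witness set lies in a centralizer
  have hle : ∀ u : B, orderOf (x : P ⧸ P0) * Nat.card {b : B // e b = u * b * u⁻¹}
      ≤ Nat.card (centralizer ({(x : P ⧸ P0)} : Set (P ⧸ P0))) := by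
    intro u
    set g := (u : P)⁻¹ * x with hg
    have hmk : (g : P ⧸ P0) = x := by
      rw [hg, QuotientGroup.mk_mul, (QuotientGroup.eq_one_iff _).mpr (P0.inv_mem (hB u.2)), one_mul]
    have hgP0 : g ∉ P0 := fun h => hx (by
      rw [← QuotientGroup.eq_one_iff, ← hmk, QuotientGroup.eq_one_iff]; exact h)
    have h1 := card_eq_inf_mul_map P0 (centralizer ({g} : Set P))
    rw [hC.card_centralizer hgP0, hmk] at h1
    rw [h1, mul_comm]
    refine Nat.mul_le_mul ?_ ?_
    · refine Nat.card_le_card_of_injective (fun b => (⟨(b.1 : P), ?_, hB b.1.2⟩ :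
        (centralizer ({g} : Set P) ⊓ P0 : Subgroup P))) fun a b hab =>
          Subtype.ext (Subtype.ext (congrArg Subtype.val hab :))
      refine mem_centralizer_singleton_iff.mpr ?_
      have h := congrArg Subtype.val ((conjEquivN_apply B x b.1).symm.trans b.2)
      simp only [Subgroup.coe_mul, Subgroup.coe_inv] at h
      calc (b.1 : P) * g = (u : P)⁻¹ * ((u : P) * b.1 * (u : P)⁻¹) * x := by rw [hg]; group
        _ = (u : P)⁻¹ * (x * b.1 * x⁻¹) * x := by rw [h]
        _ = _ := by rw [hg]; group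
    · rw [← Nat.card_zpowers]
      refine Subgroup.card_le_of_le (zpowers_le.mpr ?_)
      exact ⟨g, mem_centralizer_singleton_iff.mpr rfl, hmk⟩
  have htot := Finset.sum_le_sum (s := Finset.univ) fun u (_ : u ∈ Finset.univ) => hle u
  rw [← Finset.mul_sum, hN, Finset.sum_const, smul_eq_mul, Finset.card_univ,
    ← Nat.card_eq_fintype_card, mul_left_comm] at htot
  exact Nat.le_of_mul_le_mul_left htot Nat.card_pos

/-- An inertia group with cyclic image in `P ⧸ P0` has trivial image. -/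
theorem map_inertia_eq_bot {P0 : Subgroup P} [P0.Normal] (hC : IsCamina P0) {B : Subgroup P}
    [B.Normal] (hB : B ≤ P0) {φ : B → ℂ} (hφ : IsIrrCharacter B φ) (hφ1 : φ ≠ fun _ => 1)
    (hcyc : IsCyclic ((inertia B φ).map (QuotientGroup.mk' P0))) :
    (inertia B φ).map (QuotientGroup.mk' P0) = ⊥ := by
  classical
  haveI := Fintype.ofFinite P
  haveI := Fintype.ofFinite B
  set I := inertia B φ with hI
  by_contra hne
  obtain ⟨⟨_, x, hxI, rfl⟩, hgen⟩ := hcyc.exists_generator
  have hzp : I.map (QuotientGroup.mk' P0) = zpowers (x : P ⧸ P0) := by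
    refine le_antisymm (fun w hw => ?_) (zpowers_le.mpr (mem_map_of_mem _ hxI))
    obtain ⟨i, hi⟩ := hgen ⟨w, hw⟩
    exact ⟨i, congrArg Subtype.val hi⟩
  have hx : x ∉ P0 := fun h => hne (by
    rw [hzp, (QuotientGroup.eq_one_iff x).mpr h, zpowers_one_eq_bot])
  set o := orderOf (x : P ⧸ P0)
  set Cb := centralizer ({(x : P ⧸ P0)} : Set (P ⧸ P0))
  set C := Cb.comap (QuotientGroup.mk' P0) with hCdef
  have hmemC : ∀ y : P, y ∈ C ↔ (y : P ⧸ P0) * x = x * y := fun y => by
    rw [hCdef, mem_comap]; exact mem_centralizer_singleton_iff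
  have hP0C : P0 ≤ C := fun n hn => (hmemC n).mpr (by
    rw [(QuotientGroup.eq_one_iff n).mpr hn, one_mul, mul_one])
  have hIC : ∀ y ∈ I, y ∈ C := fun y hy => by
    obtain ⟨i, hi⟩ : (y : P ⧸ P0) ∈ zpowers (x : P ⧸ P0) := hzp ▸ mem_map_of_mem _ hy
    rw [hmemC, ← hi]
    exact ((Commute.refl _).zpow_left i).eq
  have hcardI : Nat.card I = Nat.card (I ⊓ P0 : Subgroup P) * o := by
    rw [card_eq_inf_mul_map P0 I, hzp, Nat.card_zpowers]
  have hcardC : Nat.card C = Nat.card P0 * Nat.card Cb := by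
    rw [card_eq_inf_mul_map P0 C, inf_eq_right.mpr hP0C,
      map_comap_eq_self_of_surjective (QuotientGroup.mk'_surjective P0)]
  have hconjC : ∀ y ∈ C, x⁻¹ * (y * x * y⁻¹) ∈ P0 := fun y hy => by
    rw [← QuotientGroup.eq_one_iff]
    simp only [QuotientGroup.mk_mul, QuotientGroup.mk_inv]
    rw [(hmemC y).mp hy]; group
  -- conjugators counted two ways
  let Y := {y : C // (y : P) * x * (y : P)⁻¹ ∈ I}
  have hcount : Nat.card C * Nat.card (I ⊓ P0 : Subgroup P) = Nat.card P0 * Nat.card Y := by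
    choose u hu using fun n : P0 => hC x hx n n.2
    have huC : ∀ n, u n ∈ C := fun n => by
      rw [hmemC]
      have h := congrArg (QuotientGroup.mk' P0) (hu n)
      simp only [map_mul, map_inv, QuotientGroup.mk'_apply,
        (QuotientGroup.eq_one_iff (n : P)).mpr n.2, mul_one] at h
      exact mul_inv_eq_iff_eq_mul.mp h
    let Z := {z : C × P0 // (z.1 : P) * (x * z.2) * (z.1 : P)⁻¹ ∈ I}
    have e1 : Nat.card Z = Nat.card P0 * Nat.card Y := by
      rw [← Nat.card_prod]
      refine Nat.card_congr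
        { toFun := fun z => (z.1.2, ⟨⟨(z.1.1 : P) * u z.1.2, C.mul_mem z.1.1.2 (huC _)⟩, by
            have h := z.2
            rw [← hu z.1.2] at h
            simpa [mul_assoc] using h⟩)
          invFun := fun w => ⟨(⟨(w.2.1 : P) * (u w.1)⁻¹, C.mul_mem w.2.1.2 (C.inv_mem (huC _))⟩,
            w.1), by
              have h := w.2.2
              rw [← hu w.1]
              simpa [mul_assoc] using h⟩
          left_inv := fun z => Subtype.ext (Prod.ext (Subtype.ext (by simp)) rfl)
          right_inv := fun w => Prod.ext rfl (Subtype.ext (Subtype.ext (by simp))) }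
    have e2 : Nat.card Z = Nat.card C * Nat.card (I ⊓ P0 : Subgroup P) := by
      rw [← Nat.card_prod]
      refine Nat.card_congr
        { toFun := fun z => (z.1.1, ⟨x⁻¹ * ((z.1.1 : P) * (x * z.1.2) * (z.1.1 : P)⁻¹),
            I.mul_mem (I.inv_mem hxI) z.2, ?_⟩)
          invFun := fun w => ⟨(w.1, ⟨x⁻¹ * ((w.1 : P)⁻¹ * (x * w.2) * w.1), ?_⟩), ?_⟩
          left_inv := fun z => Subtype.ext (Prod.ext rfl (Subtype.ext (by
            simp [mul_assoc])))
          right_inv := fun w => Prod.ext rfl (Subtype.ext (by simp [mul_assoc])) }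
      · rw [show x⁻¹ * ((z.1.1 : P) * (x * z.1.2) * (z.1.1 : P)⁻¹)
            = x⁻¹ * ((z.1.1 : P) * x * (z.1.1 : P)⁻¹) * ((z.1.1 : P) * z.1.2 * (z.1.1 : P)⁻¹) by
          group]
        exact P0.mul_mem (hconjC _ z.1.1.2) (Subgroup.Normal.conj_mem ‹_› _ z.1.2.2 _)
      · rw [show x⁻¹ * ((w.1 : P)⁻¹ * (x * w.2) * w.1)
            = x⁻¹ * ((w.1 : P)⁻¹ * x * (w.1 : P)⁻¹⁻¹) * ((w.1 : P)⁻¹ * (w.2 : P) * w.1) by
          group]
        exact P0.mul_mem (hconjC _ (C.inv_mem w.1.2))
          (Subgroup.Normal.conj_mem' ‹_› _ w.2.2.2 _)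
      · simpa [mul_assoc] using I.mul_mem hxI w.2.2.1
    rw [← e2, e1]
  -- the conjugates fixed by `x`
  let T := {θ : {θ : IrrCharacter B // conjN B x (θ : B → ℂ) = θ} // (θ.1 : B → ℂ) ≠ fun _ => 1}
  let Θ : Y → T := fun y => ⟨⟨⟨conjN B (y.1 : P) φ, IsIrr.conjN B hφ _⟩, by
      show conjN B x (conjN B (y.1 : P) φ) = conjN B (y.1 : P) φ
      rw [← conjN_mul]
      have h := (mem_inertia B).mp y.2
      rw [show (y.1 : P) * x = ((y.1 : P) * x * (y.1 : P)⁻¹) * y.1 by group, conjN_mul, h]⟩,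
    fun h => hφ1 (by
      have h' : conjN B (y.1 : P) φ = fun _ => 1 := h
      rw [← conjN_inv_cancel B (y.1 : P) φ, h']
      rfl)⟩
  have hYT : Nat.card Y ≤ Nat.card T * Nat.card I := by
    rw [← Nat.card_prod]
    refine Nat.card_le_card_of_injective (fun y => (Θ y, ⟨(y.1 : P) *
      ((Function.invFun (fun y : C => conjN B (y : P) φ) (conjN B (y.1 : P) φ) : C) : P)⁻¹,
      ?_⟩)) fun a b hab => ?_
    · refine (mem_inertia B).mpr ?_
      rw [conjN_mul]
      set s := Function.invFun (fun y : C => conjN B (y : P) φ) (conjN B (y.1 : P) φ)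
      have hs : conjN B (s : P) φ = conjN B (y.1 : P) φ :=
        Function.invFun_eq (f := fun y : C => conjN B (y : P) φ) ⟨y.1, rfl⟩
      rw [← hs, conjN_inv_cancel]
    · have h1 : conjN B (a.1 : P) φ = conjN B (b.1 : P) φ :=
        congrArg (fun t : T => (t.1.1 : B → ℂ)) (congrArg Prod.fst hab)
      have h2 := congrArg (fun q : T × I => (q.2 : P)) hab
      simp only [h1] at h2
      exact Subtype.ext (Subtype.ext (mul_right_cancel h2))
  have hT : Nat.card T + 1 ≤ Nat.card {θ : IrrCharacter B // conjN B x (θ : B → ℂ) = θ} := by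
    rw [← Finite.card_option]
    refine Nat.card_le_card_of_injective
      (fun t : Option T => t.elim ⟨⟨fun _ => 1, isIrr_one⟩, rfl⟩ Subtype.val) ?_
    rintro (_ | a) (_ | b) h
    · rfl
    · exact absurd (congrArg (fun t => (t.1 : B → ℂ)) h).symm b.2
    · exact absurd (congrArg (fun t => (t.1 : B → ℂ)) h) a.2
    · exact congrArg some (Subtype.ext h)
  have h3 := fixed_irr_le hC hB hx
  have h4 : Nat.card Cb * (Nat.card P0 * Nat.card (I ⊓ P0 : Subgroup P))
      ≤ (o * Nat.card T) * (Nat.card P0 * Nat.card (I ⊓ P0 : Subgroup P)) :=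
    calc _ = Nat.card C * Nat.card (I ⊓ P0 : Subgroup P) := by rw [hcardC]; ring
      _ = Nat.card P0 * Nat.card Y := hcount
      _ ≤ Nat.card P0 * (Nat.card T * Nat.card I) := Nat.mul_le_mul_left _ hYT
      _ = _ := by rw [hcardI]; ring
  have h5 := Nat.le_of_mul_le_mul_right h4 (Nat.mul_pos Nat.card_pos Nat.card_pos)
  have h6 : o * (Nat.card T + 1) ≤ Nat.card Cb := (Nat.mul_le_mul_left o hT).trans h3
  have h7 : 0 < o := orderOf_pos _
  rw [mul_add, mul_one] at h6
  omega

theorem inertia_eq_top_of_trivial {B : Subgroup P} [B.Normal] {φ : B → ℂ}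
    (h : φ = fun _ => 1) : inertia B φ = ⊤ := by
  refine eq_top_iff.mpr fun g _ => (mem_inertia B).mpr ?_
  subst h
  rfl

/-- A step down a chief series of a `p`-group. -/
theorem exists_normal_relIndex_prime {p : ℕ} [hp : Fact p.Prime] (hP : IsPGroup p P)
    (B : Subgroup P) [B.Normal] (hB : B ≠ ⊥) :
    ∃ B' : Subgroup P, B'.Normal ∧ B' ≤ B ∧ B'.relIndex B = p := by
  haveI := hP.isNilpotent
  set K := ⁅B, (⊤ : Subgroup P)⁆ with hK
  have hlt : K < B := Transfer.MaxAbelianExponent.commutator_lt_of_normal hB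
  have hBp : IsPGroup p B := hP.to_subgroup B
  obtain ⟨m, hm⟩ := IsPGroup.iff_card.mp hBp
  obtain ⟨n, hn⟩ := IsPGroup.iff_card.mp (hBp.to_subgroup (K.subgroupOf B))
  have hKlt : Nat.card (K.subgroupOf B) < Nat.card B := by
    rw [Nat.card_congr (subgroupOfEquivOfLe hlt.le).toEquiv]
    by_contra hh
    exact hlt.ne (eq_of_le_of_card_ge hlt.le (not_lt.mp hh))
  have hnm : n < m := by
    rw [hn, hm] at hKlt
    exact (Nat.pow_lt_pow_iff_right hp.out.one_lt).mp hKlt
  obtain ⟨M, hM, hKM⟩ := Sylow.exists_subgroup_card_pow_prime_le p (m := m - 1)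
    (show p ^ (m - 1) ∣ Nat.card B by rw [hm]; exact pow_dvd_pow p (Nat.sub_le m 1))
    (K.subgroupOf B) hn (by omega)
  refine ⟨M.map B.subtype, ⟨fun a ha g => ?_⟩, map_subtype_le M, ?_⟩
  · obtain ⟨b, hb, rfl⟩ := ha
    have hc : ⁅(b : P)⁻¹, g⁆ ∈ K := commutator_mem_commutator (B.inv_mem b.2) (mem_top g)
    refine ⟨b * ⟨_, hlt.le hc⟩, M.mul_mem hb (hKM hc), ?_⟩
    simp [commutatorElement_def, mul_assoc]
  · have h1 : (M.map B.subtype).relIndex B = M.index := by
      rw [relIndex, subgroupOf, comap_map_eq_self_of_injective B.subtype_injective]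
    have h2 := M.card_mul_index
    rw [hM, hm, ← h1, ← pow_sub_one_mul (show m ≠ 0 by omega) p] at h2
    exact Nat.eq_of_mul_eq_mul_left (pow_pos hp.out.pos _) h2

/-- An inertia group never has cyclic image in `P ⧸ P0`. -/
theorem inertia_not_cyclic {p : ℕ} [Fact p.Prime] (hP : IsPGroup p P) {P0 : Subgroup P}
    [P0.Normal] (hC : IsCamina P0) (hnc : ¬ IsCyclic (P ⧸ P0)) :
    ∀ (B : Subgroup P) [B.Normal], B ≤ P0 → ∀ φ : B → ℂ, IsIrrCharacter B φ →
      ¬ IsCyclic ((inertia B φ).map (QuotientGroup.mk' P0)) := by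
  classical
  haveI := Fintype.ofFinite P
  intro B
  induction h : Nat.card B using Nat.strong_induction_on generalizing B with
  | _ k IH =>
  intro _ hB φ hφ hcyc
  haveI := Fintype.ofFinite B
  have hI1 : inertia B φ ≠ ⊤ := fun e => hnc (by
    rw [e, map_top_of_surjective _ (QuotientGroup.mk'_surjective P0)] at hcyc
    exact Subgroup.topEquiv.isCyclic.mp hcyc)
  have hφ1 : φ ≠ fun _ => 1 := fun e => hI1 (inertia_eq_top_of_trivial e)
  have hbot := map_inertia_eq_bot hC hB hφ hφ1 hcyc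
  have hIP0 : inertia B φ ≤ P0 := by
    have := (Subgroup.map_eq_bot_iff _).mp hbot
    rwa [QuotientGroup.ker_mk'] at this
  have hB1 : B ≠ ⊥ := by
    intro e
    refine hI1 (eq_top_iff.mpr fun g _ => (mem_inertia B).mpr (funext fun b => ?_))
    rw [conjN_apply]
    congr 1
    have hb : (b : P) = 1 := (mem_bot (G := P)).mp (e ▸ b.2)
    exact Subtype.ext (by simp [hb])
  obtain ⟨B', hB'n, hB'B, hidx⟩ := exists_normal_relIndex_prime hP B hB1
  haveI := hB'n
  haveI := Fintype.ofFinite B'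
  have hlt : Nat.card B' < k := by
    rw [← h]
    refine lt_of_le_of_ne (card_le_of_le hB'B) fun e => (Fact.out : p.Prime).ne_one ?_
    rw [← hidx, eq_of_le_of_card_ge hB'B e.ge, relIndex_self]
  -- a constituent below
  have hresc : IsCharacter B' (fun b : B' => φ ⟨b, hB'B b.2⟩) :=
    IsChar.comp (inclusion hB'B) (IsIrr.isCharacter hφ)
  obtain ⟨⟨φ', hφ'⟩, hcon⟩ := IsChar.exists_constituent' hresc (IsIrr.one_ne_zero hφ)
  set J := inertia B' φ' with hJ
  have hJc := IH _ hlt B' rfl (hB'B.trans hB) φ' hφ'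
  -- the constituents of the induced character
  haveI : Fintype (B'.subgroupOf B) := Fintype.ofFinite _
  set φM : B'.subgroupOf B → ℂ := fun b => φ' ⟨((b : B) : P), b.2⟩ with hφM
  have hφMi : IsIrrCharacter (B'.subgroupOf B) φM :=
    IsIrr.comp_mulEquiv (subgroupOfEquivOfLe hB'B) hφ'
  obtain ⟨a, ha, hdec⟩ :=
    IsChar.exists_decomp_inner (isCharacter_indFun _ (IsIrr.isCharacter hφMi))
  let S := {θ : IrrCharacter B //
    classInner (fun b : B' => (θ : B → ℂ) ⟨b, hB'B b.2⟩) φ' ≠ 0}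
  obtain ⟨d, hd0, hd⟩ := IsIrr.one_eq_pos hφ'
  have hS : Nat.card S ≤ p := by
    choose D hD using fun θ : IrrCharacter B => IsIrr.one_eq_pos θ.2
    have h1 := congrFun hdec 1
    rw [sum_irr_apply, indFun_one_eq] at h1
    have h2 : (p * d : ℕ) = ∑ θ : IrrCharacter B, a θ * D θ := by
      have h3 : ((p * d : ℕ) : ℂ) = ((∑ θ : IrrCharacter B, a θ * D θ : ℕ) : ℂ) := by
        rw [Nat.cast_sum, Nat.cast_mul, ← hidx, ← hd]
        refine Eq.trans ?_ (h1.trans (Finset.sum_congr rfl fun θ _ => by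
          rw [(hD θ).2, Nat.cast_mul]))
        rfl
      exact_mod_cast h3
    have h3 : ∀ θ ∈ (Finset.univ.filter fun θ : IrrCharacter B =>
        classInner (fun b : B' => (θ : B → ℂ) ⟨b, hB'B b.2⟩) φ' ≠ 0), d ≤ a θ * D θ := by
      intro θ hθ
      have hne := (Finset.mem_filter.mp hθ).2
      have hle := degree_le_of_constituent (IsChar.comp (inclusion hB'B) (IsIrr.isCharacter θ.2))
        hφ' hne (m := D θ) (hD θ).2 hd
      refine hle.trans (Nat.le_mul_of_pos_left _ (Nat.pos_of_ne_zero fun e => hne ?_))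
      have h4 := ha θ
      rw [e, Nat.cast_zero, classInner_indFun _ φM (IsIrr.classFun θ.2),
        Corr.classInner_subgroupOf B' hB'B φ' (fun b : B' => (θ : B → ℂ) ⟨b, hB'B b.2⟩)] at h4
      rw [← classInner_conj_symm, h4, map_zero]
    have h4 := Finset.card_nsmul_le_sum _ _ d h3
    have h5 : Nat.card S * d ≤ p * d := by
      rw [Nat.card_eq_fintype_card, Fintype.card_subtype]
      calc _ ≤ _ := by simpa [smul_eq_mul] using h4
        _ ≤ ∑ θ : IrrCharacter B, a θ * D θ :=
          Finset.sum_le_sum_of_subset (Finset.filter_subset _ _)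
        _ = p * d := h2.symm
    exact Nat.le_of_mul_le_mul_right h5 hd0
  -- the orbit under the larger inertia group
  let Θ : J → S := fun y => ⟨⟨conjN B (y : P) φ, IsIrr.conjN B hφ _⟩, by
    have hy : conjN B' (y : P) φ' = φ' := (mem_inertia B').mp y.2
    show classInner (fun b : B' => conjN B (y : P) φ ⟨b, hB'B b.2⟩) φ' ≠ 0
    have e : (fun b : B' => conjN B (y : P) φ ⟨b, hB'B b.2⟩)
        = conjN B' (y : P) (fun b : B' => φ ⟨b, hB'B b.2⟩) := rfl
    rw [e]
    conv => enter [1, 2]; rw [← hy]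
    rw [classInner_conjN]
    exact hcon⟩
  have hJle : Nat.card J ≤ Nat.card S * Nat.card (J ⊓ P0 : Subgroup P) := by
    rw [← Nat.card_prod]
    refine Nat.card_le_card_of_injective (fun y => (Θ y, ⟨(y : P) *
      ((Function.invFun (fun y : J => conjN B (y : P) φ) (conjN B (y : P) φ) : J) : P)⁻¹,
      J.mul_mem y.2 (J.inv_mem (Subtype.prop _)), hIP0 ?_⟩)) fun a b hab => ?_
    · rw [mem_inertia, conjN_mul]
      set s := Function.invFun (fun y : J => conjN B (y : P) φ) (conjN B (y : P) φ)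
      have hs : conjN B (s : P) φ = conjN B (y : P) φ :=
        Function.invFun_eq (f := fun y : J => conjN B (y : P) φ) ⟨y, rfl⟩
      rw [← hs, conjN_inv_cancel]
    · have h1 : conjN B (a : P) φ = conjN B (b : P) φ :=
        congrArg (fun t : S => (t.1 : B → ℂ)) (congrArg Prod.fst hab)
      have h2 := congrArg (fun q : S × (J ⊓ P0 : Subgroup P) => (q.2 : P)) hab
      simp only [h1] at h2
      exact Subtype.ext (mul_right_cancel h2)
  rw [card_eq_inf_mul_map P0 J, mul_comm (Nat.card S)] at hJle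
  have hmap := (Nat.le_of_mul_le_mul_left hJle Nat.card_pos).trans hS
  obtain ⟨j, hj⟩ := IsPGroup.iff_card.mp ((hP.to_quotient P0).to_subgroup
    (J.map (QuotientGroup.mk' P0)))
  have hj1 : j ≤ 1 := by
    by_contra hh
    have h2 : p ^ 2 ≤ p := (Nat.pow_le_pow_right (Fact.out : p.Prime).pos (not_le.mp hh)).trans
      (hj ▸ hmap)
    nlinarith [(Fact.out : p.Prime).two_le]
  rcases Nat.le_one_iff_eq_zero_or_eq_one.mp hj1 with e | e
  · refine hJc ?_
    have h0 : Nat.card (J.map (QuotientGroup.mk' P0)) = 1 := by rw [hj, e, pow_zero]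
    rw [Subgroup.card_eq_one.mp h0]
    infer_instance
  · exact hJc (isCyclic_of_prime_card (p := p) (by rw [hj, e, pow_one]))

end Cfsg.Agent.Fus.CaminaFpf
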