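import Cfsg.Agent.Lib.Fus.CaminaFpf.Homogeneous
import Cfsg.Agent.Lib.Char.Integral
import Cfsg.Prelude.Def_Blocks

/-!
From a coprime modular representation in which no element outside `P0` has a nonzero fixed vector
to an ordinary irreducible character with the same property.
-/

namespace Cfsg.Agent.Fus.CaminaFpf

open scoped ComplexConjugate
open Cfsg Cfsg.Agent.Char Module Representation

universe u

variable {P : Type u} [Group P]

/-- A value of a character as an algebraic integer. -/
noncomputable def charInt [Finite P] {ψ : P → ℂ} (h : IsCharacter P ψ) (g : P) : AlgInt :=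
  ⟨ψ g, IsChar.isIntegral h g⟩

/-- Averaging a conjugate against a fixed element. -/
theorem sum_mul_conjugate [Fintype P] {ψ : P → ℂ} (h : IsIrrCharacter P ψ) (a z : P) :
    ψ 1 * ∑ x : P, ψ (a * (x⁻¹ * z * x)) = (Nat.card P : ℂ) * ψ a * ψ z := by
  obtain ⟨n, ρ, hρ, rfl⟩ := h
  haveI := hρ
  obtain ⟨c, hc⟩ := schur_scalar ρ (∑ x : P, ρ (x⁻¹ * z * x)) fun y => by
    show (∑ x : P, ρ (x⁻¹ * z * x)) * ρ y = ρ y * ∑ x : P, ρ (x⁻¹ * z * x)
    rw [Finset.sum_mul, Finset.mul_sum]
    refine Fintype.sum_equiv (Equiv.mulRight y) _ _ fun x => ?_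
    rw [← map_mul, ← map_mul]
    simp [mul_assoc]
  have htr := congrArg (LinearMap.trace ℂ (Fin n → ℂ)) hc
  rw [map_sum, map_smul, LinearMap.trace_id, smul_eq_mul] at htr
  have hconst : ∀ x : P, LinearMap.trace ℂ _ (ρ (x⁻¹ * z * x)) = ρ.character z := fun x => by
    have := IsIrr.classFun ⟨n, ρ, hρ, rfl⟩ z x⁻¹
    rwa [inv_inv] at this
  rw [Finset.sum_congr rfl fun x _ => hconst x, Finset.sum_const, Finset.card_univ, nsmul_eq_mul,
    ← Nat.card_eq_fintype_card] at htr
  have hsum : ∑ x : P, ρ.character (a * (x⁻¹ * z * x)) = c * ρ.character a := by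
    simp only [Representation.character, map_mul ρ a]
    rw [← map_sum, ← Finset.mul_sum, hc, ← Module.End.one_eq_id, mul_smul_comm, mul_one, map_smul,
      smul_eq_mul]
  rw [hsum, Representation.char_one, mul_right_comm _ (ρ.character a), htr]
  ring

/-- The orthogonality relation with a parameter. -/
theorem sum_mul_inv [Fintype P] {ψ : P → ℂ} (h : IsIrrCharacter P ψ) (a b : P) :
    ψ 1 * ∑ y : P, ψ (a * y⁻¹) * ψ (y * b) = (Nat.card P : ℂ) * ψ (a * b) := by
  have hshift : ∑ y : P, ψ (a * y⁻¹) * ψ (y * b) = ∑ y : P, ψ y⁻¹ * ψ (y * (a * b)) :=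
    (Fintype.sum_equiv (Equiv.mulRight a) _ _ fun y => by simp [mul_assoc]).symm
  rw [hshift]
  have hnorm := classInner_self_irr h
  have hclass := IsIrr.classFun h
  have hinv : ∀ y, ψ y⁻¹ = conj (ψ y) := fun y => IsChar.apply_inv (IsIrr.isCharacter h) y
  obtain ⟨n, ρ, hρ, rfl⟩ := h
  haveI := hρ
  obtain ⟨c, hc⟩ := schur_scalar ρ (∑ y : P, ρ.character y⁻¹ • ρ y) fun x => by
    show (∑ y : P, ρ.character y⁻¹ • ρ y) * ρ x = ρ x * ∑ y : P, ρ.character y⁻¹ • ρ y
    rw [Finset.sum_mul, Finset.mul_sum]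
    refine Fintype.sum_equiv ((MulAut.conj x⁻¹).toEquiv) _ _ fun y => ?_
    simp only [smul_mul_assoc, mul_smul_comm, ← map_mul, MulEquiv.toEquiv_eq_coe,
      MulEquiv.coe_toEquiv, MulAut.conj_apply, inv_inv, mul_inv_rev]
    rw [show x * (x⁻¹ * y * x) = y * x by group]
    congr 1
    have := hclass y⁻¹ x⁻¹
    rw [inv_inv] at this
    rw [← this]
    congr 1
    group
  have htr := congrArg (LinearMap.trace ℂ (Fin n → ℂ)) hc
  rw [map_sum, map_smul, LinearMap.trace_id, smul_eq_mul] at htr
  have hcn : c * (finrank ℂ (Fin n → ℂ) : ℂ) = Nat.card P := by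
    rw [← htr]
    simp only [classInner] at hnorm
    rw [inv_mul_eq_iff_eq_mul₀ (Nat.cast_ne_zero.mpr Nat.card_pos.ne'), mul_one] at hnorm
    rw [← hnorm]
    refine Finset.sum_congr rfl fun y _ => ?_
    rw [map_smul, smul_eq_mul, hinv, mul_comm]
    rfl
  have hsum : ∑ y : P, ρ.character y⁻¹ * ρ.character (y * (a * b)) = c * ρ.character (a * b) := by
    have h1 := congrArg (fun X => LinearMap.trace ℂ (Fin n → ℂ) (X * ρ (a * b))) hc
    simp only [Finset.sum_mul, smul_mul_assoc, ← map_mul ρ, map_sum, map_smul, smul_eq_mul,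
      ← Module.End.one_eq_id, one_mul] at h1
    exact h1
  rw [hsum, Representation.char_one, ← hcn]
  ring

variable [Fintype P] {k : Type*} [Field k] (red : AlgInt →+* k) {W : Type*} [AddCommGroup W]
  [Module k W] (ρ : Representation k P W)

/-- Some irreducible character acts nontrivially on a coprime representation. -/
theorem exists_character_ne_zero [Nontrivial W] (hP : (Nat.card P : k) ≠ 0) :
    ∃ ψ : IrrCharacter P, ∑ g : P, red (charInt (IsIrr.isCharacter ψ.2) g) • ρ g ≠ 0 := by
  classical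
  by_contra hno
  push Not at hno
  have hid : ∀ g : P, ∑ χ : IrrCharacter P,
      red (charInt (IsIrr.isCharacter χ.2) 1) * red (charInt (IsIrr.isCharacter χ.2) g)
        = if g = 1 then (Nat.card P : k) else 0 := by
    intro g
    rw [← Finset.sum_congr rfl fun χ _ => map_mul red _ _, ← map_sum]
    have h1 : (∑ χ : IrrCharacter P, charInt (IsIrr.isCharacter χ.2) 1 *
        charInt (IsIrr.isCharacter χ.2) g) = if g = 1 then (Nat.card P : AlgInt) else 0 := by
      apply Subtype.ext
      rw [AddSubmonoidClass.coe_finset_sum]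
      have h2 := sum_irr_mul_conj g (1 : P)
      have h3 : ∀ χ : IrrCharacter P, conj ((χ : P → ℂ) 1) = (χ : P → ℂ) 1 := fun χ => by
        obtain ⟨m, -, hm⟩ := IsIrr.one_eq_pos χ.2
        rw [hm, Complex.conj_natCast]
      rw [Finset.sum_congr rfl fun χ _ => by rw [h3 χ, mul_comm]] at h2
      refine (Finset.sum_congr rfl fun χ _ => ?_).trans (h2.trans ?_)
      · rfl
      · by_cases hg : g = 1
        · subst hg
          rw [if_pos (IsConj.refl _), if_pos rfl,
            show Subgroup.centralizer ({(1 : P)} : Set P) = ⊤ from eq_top_iff.mpr fun x _ =>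
              Subgroup.mem_centralizer_singleton_iff.mpr (by simp), Subgroup.card_top]
          rfl
        · rw [if_neg (fun hh => hg (isConj_one_left.mp hh)), if_neg hg]
          rfl
    rw [h1]
    split <;> simp
  have hzero : ∑ χ : IrrCharacter P, red (charInt (IsIrr.isCharacter χ.2) 1) •
      ∑ g : P, red (charInt (IsIrr.isCharacter χ.2) g) • ρ g = 0 :=
    Finset.sum_eq_zero fun χ _ => by rw [hno χ, smul_zero]
  simp only [Finset.smul_sum, smul_smul] at hzero
  rw [Finset.sum_comm, Finset.sum_congr rfl fun g _ => by rw [← Finset.sum_smul, hid g],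
    Finset.sum_eq_single (1 : P) (fun g _ hg => by rw [if_neg hg, zero_smul])
      (fun h => absurd (Finset.mem_univ _) h), if_pos rfl, map_one, smul_eq_zero] at hzero
  exact one_ne_zero (hzero.resolve_left hP)

variable {P0 : Subgroup P}

include red in
/-- The lift: `P` with no fixed vectors off `P0` on a coprime module. -/
theorem exists_fpf_character [Nontrivial W] (hP : (Nat.card P : k) ≠ 0)
    (hfix : ∀ g : P, g ∉ P0 → ∀ w, ρ g w = w → w = 0) :
    ∃ ψ : P → ℂ, IsIrrCharacter P ψ ∧ IsFpfOff P0 ψ := by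
  classical
  obtain ⟨⟨ψ, hψ⟩, hT⟩ := exists_character_ne_zero red ρ hP
  refine ⟨ψ, hψ, fun g hg => ?_⟩
  have hcl := IsIrr.classFun hψ
  have hswap : ∀ a b : P, ψ (a * b) = ψ (b * a) := fun a b => by
    have := hcl (b * a) a
    rw [← this]; congr 1; group
  set X : P → AlgInt := charInt (IsIrr.isCharacter hψ) with hX
  have hXval : ∀ x, (X x : ℂ) = ψ x := fun _ => rfl
  set T : Module.End k W := ∑ z : P, red (X z) • ρ z with hTdef
  set o := orderOf g with ho
  let f : P → AlgInt := fun w => ∑ i ∈ Finset.range o, X (g ^ i * w)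
  have hfval : ∀ w, (f w : ℂ) = ∑ i ∈ Finset.range o, ψ (g ^ i * w) := fun w => by
    simp only [f]
    rw [AddSubmonoidClass.coe_finset_sum]
    rfl
  -- the orbit sum kills `W`
  have hN : ∑ i ∈ Finset.range o, ρ ((g⁻¹) ^ i) = 0 := by
    refine LinearMap.ext fun w => ?_
    refine hfix g⁻¹ (fun hh => hg (by simpa using P0.inv_mem hh)) _ ?_
    rw [LinearMap.sum_apply, map_sum]
    have h1 := Finset.sum_range_succ' (fun i => ρ ((g⁻¹) ^ i) w) o
    have h2 := Finset.sum_range_succ (fun i => ρ ((g⁻¹) ^ i) w) o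
    rw [show (g⁻¹) ^ o = 1 by rw [inv_pow, ho, pow_orderOf_eq_one, inv_one]] at h2
    simp only [pow_zero, map_one, Module.End.one_apply] at h1 h2
    refine (Finset.sum_congr rfl fun i _ => ?_).trans (add_right_cancel (h1.symm.trans h2))
    rw [pow_succ', map_mul, Module.End.mul_apply]
  have hTf : ∑ w : P, red (f w) • ρ w = 0 := by
    simp only [f, map_sum, Finset.sum_smul]
    rw [Finset.sum_comm]
    have h1 : ∀ i ∈ Finset.range o, ∑ w : P, red (X (g ^ i * w)) • ρ w = ρ ((g⁻¹) ^ i) * T := by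
      intro i _
      rw [hTdef, Finset.mul_sum]
      refine Fintype.sum_equiv (Equiv.mulLeft (g ^ i)) _ _ fun w => ?_
      rw [mul_smul_comm, ← map_mul]
      simp [inv_pow, ← mul_assoc]
    rw [Finset.sum_congr rfl h1, ← Finset.sum_mul, hN, zero_mul]
  -- every value of `f` vanishes in `k`
  have hfy : ∀ y : P, red (f y) = 0 := by
    intro y
    let u : P → AlgInt := fun w => ∑ x : P, f (x⁻¹ * w * x * y)
    have hu : ∑ w : P, red (u w) • ρ w = 0 := by
      simp only [u, map_sum, Finset.sum_smul]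
      rw [Finset.sum_comm]
      refine Finset.sum_eq_zero fun x _ => ?_
      have h1 : ρ x * (∑ w : P, red (f w) • ρ w) * ρ (y⁻¹ * x⁻¹)
          = ∑ w : P, red (f (x⁻¹ * w * x * y)) • ρ w := by
        rw [Finset.mul_sum, Finset.sum_mul]
        refine Fintype.sum_equiv ((Equiv.mulRight (y⁻¹ * x⁻¹)).trans (Equiv.mulLeft x)) _ _
          fun w => ?_
        rw [mul_smul_comm, smul_mul_assoc, ← map_mul, ← map_mul]
        simp [mul_assoc]
      rw [← h1, hTf, mul_zero, zero_mul]
    have hkey : ∀ w, X 1 * u w = (Nat.card P : AlgInt) * f y * X w := fun w => by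
      apply Subtype.ext
      have h1 : ∀ i, ∑ x : P, ψ (g ^ i * (x⁻¹ * w * x * y)) = ∑ x : P, ψ (y * g ^ i * (x⁻¹ * w * x)) :=
        fun i => Finset.sum_congr rfl fun x _ => by
          rw [← mul_assoc, hswap _ y, ← mul_assoc]
      simp only [u, MulMemClass.coe_mul, AddSubmonoidClass.coe_finset_sum, hfval, hXval]
      rw [Finset.sum_comm, Finset.sum_congr rfl fun i _ => h1 i, Finset.mul_sum,
        Finset.sum_congr rfl fun i _ => sum_mul_conjugate hψ (y * g ^ i) w,
        Finset.sum_congr rfl fun i _ => by rw [hswap y (g ^ i)],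
        Finset.mul_sum, Finset.sum_mul]
      rfl
    have h2 : red (X 1) • (∑ w : P, red (u w) • ρ w)
        = ((Nat.card P : k) * red (f y)) • T := by
      rw [hTdef, Finset.smul_sum, Finset.smul_sum]
      refine Finset.sum_congr rfl fun w _ => ?_
      rw [smul_smul, smul_smul, ← map_mul, hkey w, map_mul, map_mul, map_natCast]
    rw [hu, smul_zero] at h2
    exact (mul_eq_zero.mp ((smul_eq_zero.mp h2.symm).resolve_right hT)).resolve_left hP
  -- hence `f` vanishes
  obtain ⟨n, hn0, hn⟩ := IsIrr.one_eq_pos hψ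
  have hdvd : n ∣ Nat.card P := IsIrr.degree_dvd_card hψ hn
  let A : Matrix P P AlgInt := Matrix.of fun x y => f (x * y⁻¹)
  let c : AlgInt := ((Nat.card P / n * o : ℕ) : AlgInt)
  have hcval : (c : ℂ) = ((Nat.card P / n * o : ℕ) : ℂ) :=
    (map_natCast (AlgInt.val : AlgInt →+* ℂ) (Nat.card P / n * o) :)
  have hA2 : A * A = c • A := by
    refine Matrix.ext fun x z => Subtype.ext ?_
    simp only [Matrix.mul_apply, Matrix.smul_apply, A, Matrix.of_apply, smul_eq_mul,
      AddSubmonoidClass.coe_finset_sum, MulMemClass.coe_mul, hfval, hcval]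
    refine mul_left_cancel₀ (Nat.cast_ne_zero.mpr hn0.ne' : (n : ℂ) ≠ 0) ?_
    rw [← mul_assoc (n : ℂ), Nat.cast_mul, ← mul_assoc (n : ℂ), ← Nat.cast_mul n,
      Nat.mul_div_cancel' hdvd, ← hn]
    have h1 : ∀ i j : ℕ, ψ 1 * ∑ y : P, ψ (g ^ i * (x * y⁻¹)) * ψ (g ^ j * (y * z⁻¹))
        = (Nat.card P : ℂ) * ψ (g ^ (i + j) * (x * z⁻¹)) := fun i j => by
      rw [Finset.sum_congr rfl fun y _ => by
        rw [hswap (g ^ j), mul_assoc y, ← mul_assoc (g ^ i)], sum_mul_inv hψ, ← mul_assoc _ z⁻¹,
        hswap _ (g ^ j), pow_add, ← pow_mul_comm]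
      simp only [mul_assoc]
    simp only [Finset.sum_mul_sum]
    rw [Finset.sum_comm, Finset.mul_sum,
      Finset.sum_congr rfl fun i _ => by rw [Finset.sum_comm, Finset.mul_sum,
        Finset.sum_congr rfl fun j _ => h1 i j, ← Finset.mul_sum]]
    have h2 : ∀ i : ℕ, ∑ j ∈ Finset.range o, ψ (g ^ (i + j) * (x * z⁻¹))
        = ∑ j ∈ Finset.range o, ψ (g ^ j * (x * z⁻¹)) := fun i => by
      induction i with
      | zero => simp
      | succ i ih =>
        rw [← ih]
        have e1 := Finset.sum_range_succ' (fun j => ψ (g ^ (i + j) * (x * z⁻¹))) o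
        have e2 := Finset.sum_range_succ (fun j => ψ (g ^ (i + j) * (x * z⁻¹))) o
        rw [show g ^ (i + o) = g ^ (i + 0) by rw [pow_add, ho, pow_orderOf_eq_one]; simp] at e2
        refine (Finset.sum_congr rfl fun j _ => ?_).trans (add_right_cancel (e1.symm.trans e2))
        rw [show i + 1 + j = i + (j + 1) by omega]
    rw [Finset.sum_congr rfl fun i _ => by rw [h2 i], Finset.sum_const, Finset.card_range,
      nsmul_eq_mul]
    ring
  have hA0 : A = 0 := by
    by_contra hne
    obtain ⟨x, z, hxz⟩ : ∃ x z, A x z ≠ 0 := by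
      by_contra hh; push Not at hh; exact hne (Matrix.ext hh)
    have hmul : (c • (1 : Matrix P P AlgInt) - A) * A = 0 := by
      rw [Matrix.sub_mul, Matrix.smul_mul, Matrix.one_mul, hA2, sub_self]
    have hdet := congrArg (fun B => ((c • (1 : Matrix P P AlgInt) - A).adjugate * B) x z) hmul
    simp only [← Matrix.mul_assoc, Matrix.adjugate_mul, Matrix.smul_mul, Matrix.one_mul,
      Matrix.mul_zero, Matrix.zero_apply, Matrix.smul_apply, smul_eq_mul] at hdet
    have h0 := congrArg red ((mul_eq_zero.mp hdet).resolve_right hxz)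
    rw [RingHom.map_det, map_zero] at h0
    have h1 : red.mapMatrix (c • (1 : Matrix P P AlgInt) - A) = red c • (1 : Matrix P P k) := by
      ext a b
      have hab : red (A a b) = 0 := hfy _
      simp [Matrix.map_apply, Matrix.one_apply, hab, apply_ite red]
    rw [h1, Matrix.det_smul, Matrix.det_one, mul_one] at h0
    have hc : ((Nat.card P / n * o : ℕ) : k) ≠ 0 := by
      rw [Nat.cast_mul]
      refine mul_ne_zero (fun e => hP ?_) (fun e => hP ?_)
      · rw [← Nat.mul_div_cancel' hdvd, Nat.cast_mul, e, mul_zero]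
      · rw [← Nat.mul_div_cancel' (orderOf_dvd_natCard g), Nat.cast_mul, e, zero_mul]
    exact hc (by rw [← map_natCast red]; exact (pow_eq_zero_iff Fintype.card_ne_zero).mp h0)
  have h11 := congrArg (fun B : Matrix P P AlgInt => (B 1 1 : ℂ)) hA0
  simpa [A, hfval] using h11

end Cfsg.Agent.Fus.CaminaFpf
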