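import Cfsg.Agent.Lib.Fus.CaminaFpf.Inertia
import Cfsg.Agent.Lib.Fus.CaminaFpf.Lift
import Cfsg.Agent.Lib.Fus.CaminaPairChar
import Cfsg.Agent.Lib.Char.ModP
import Cfsg.Agent.Lib.Grp.FpfDual
import Cfsg.Agent.Lib.Grp.FT.NoMinSimple

/-!
The kernel of a Camina pair is solvable.
-/

namespace Cfsg.Agent.Fus.CaminaFpf

open Subgroup
open scoped ComplexConjugate commutatorElement
open Cfsg Cfsg.Agent.Char Cfsg.Agent.Fus

universe u

/-- A `p`-Camina pair with noncyclic quotient has no character without fixed vectors off the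
kernel. -/
theorem no_fpf_character {P : Type u} [Group P] [Finite P] {p : ℕ} [Fact p.Prime] (hp : p ≠ 2)
    (hP : IsPGroup p P) {P0 : Subgroup P} [P0.Normal] (hC : IsCamina P0)
    (hnc : ¬ IsCyclic (P ⧸ P0)) {χ : P → ℂ} (hχ : IsIrrCharacter P χ) (hfpf : IsFpfOff P0 χ) :
    False := by
  classical
  haveI := Fintype.ofFinite P
  haveI := Fintype.ofFinite P0
  obtain ⟨⟨ρ, hρ⟩, hρc⟩ := IsChar.exists_constituent'
    (IsChar.res (IsIrr.isCharacter hχ) P0) (χ := fun x : P0 => χ x) (IsIrr.one_ne_zero hχ)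
  set I := inertia P0 ρ
  haveI := Fintype.ofFinite I
  have hle : P0 ≤ I := le_inertia P0 (IsIrr.classFun hρ)
  obtain ⟨ψ, hψ, hψc, -, m, hm⟩ := exists_over (IsIrr.isCharacter hχ) hρ hρc hle le_rfl
  haveI : (P0.subgroupOf I).Normal := Subgroup.Normal.subgroupOf inferInstance _
  have hcyc : IsCyclic (I ⧸ P0.subgroupOf I) :=
    isCyclic_of_fpf hp _ I rfl (hP.to_subgroup I) (P0.subgroupOf I) ψ (IsIrr.isCharacter hψ)
      (IsIrr.one_ne_zero hψ)
      ((hfpf.comp I.subtype_injective).constituent (IsChar.res (IsIrr.isCharacter hχ) I) hψ hψc)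
      (fun x => ρ ⟨((x : I) : P), x.2⟩) (IsIrr.comp_mulEquiv (subgroupOfEquivOfLe hle) hρ) m
      fun x => hm ⟨((x : I) : P), x.2⟩
  refine inertia_not_cyclic hP hC hnc P0 le_rfl ρ hρ ?_
  refine isCyclic_of_surjective
    (((QuotientGroup.map (P0.subgroupOf I) P0 I.subtype le_rfl)).codRestrict _ fun x => ?_)
    fun y => ?_
  · obtain ⟨i, rfl⟩ := QuotientGroup.mk'_surjective _ x
    exact mem_map_of_mem _ i.2
  · obtain ⟨_, i, hi, rfl⟩ := y
    exact ⟨((⟨i, hi⟩ : I) : I ⧸ P0.subgroupOf I), rfl⟩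

variable {G : Type u} [Group G] [Finite G] {N : Subgroup G} [N.Normal]

/-- A subgroup covering the quotient inherits a Camina pair. -/
theorem isCamina_subgroupOf (hC : IsCamina N) {H : Subgroup G} (hH : N ⊔ H = ⊤) :
    IsCamina (N.subgroupOf H) := by
  classical
  intro g hg n hn
  by_contra hno
  push Not at hno
  set C' := centralizer ({((g : G) : G ⧸ N)} : Set (G ⧸ N))
  set F := (C'.comap (QuotientGroup.mk' N)).subgroupOf H with hF
  have hFmem : ∀ x : H, x ∈ F ↔ ((x : G) : G ⧸ N) * (g : G) = (g : G) * (x : G) := fun x => by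
    rw [hF, mem_subgroupOf, mem_comap]
    exact mem_centralizer_singleton_iff
  have hFcard : Nat.card F = Nat.card (N.subgroupOf H) * Nat.card C' := by
    let f : F →* C' :=
      { toFun := fun x => ⟨((x.1 : G) : G ⧸ N),
          mem_centralizer_singleton_iff.mpr ((hFmem _).mp x.2)⟩
        map_one' := rfl
        map_mul' := fun _ _ => rfl }
    have hsurj : Function.Surjective f := by
      rintro ⟨c, hc⟩
      obtain ⟨c, rfl⟩ := QuotientGroup.mk_surjective c
      obtain ⟨a, ha, b, hb, hab⟩ := mem_sup_of_normal_left.mp (hH.ge (mem_top c))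
      have hbc : ((b : G) : G ⧸ N) = (c : G ⧸ N) := by
        rw [← hab, QuotientGroup.mk_mul, (QuotientGroup.eq_one_iff a).mpr ha, one_mul]
      exact ⟨⟨⟨b, hb⟩, (hFmem _).mpr (by
        rw [hbc]; exact mem_centralizer_singleton_iff.mp hc)⟩, Subtype.ext hbc⟩
    have h1 := f.ker.card_mul_index
    rw [index_ker, MonoidHom.range_eq_top.mpr hsurj, card_top] at h1
    rw [← h1]
    congr 1
    refine Nat.card_congr
      { toFun := fun x => ⟨x.1.1,
          (QuotientGroup.eq_one_iff ((x.1.1 : H) : G)).mp (congrArg Subtype.val x.2 :)⟩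
        invFun := fun y => ⟨⟨y.1, (hFmem _).mpr (by
            rw [(QuotientGroup.eq_one_iff (y.1 : G)).mpr y.2, one_mul, mul_one])⟩,
          Subtype.ext ((QuotientGroup.eq_one_iff (y.1 : G)).mpr y.2)⟩
        left_inv := fun x => rfl
        right_inv := fun y => rfl }
  have hΦ : ∀ x : F, g⁻¹ * (x.1 * g * x.1⁻¹) ∈ N.subgroupOf H := fun x => by
    rw [mem_subgroupOf, ← QuotientGroup.eq_one_iff]
    simp only [Subgroup.coe_mul, Subgroup.coe_inv, QuotientGroup.mk_mul, QuotientGroup.mk_inv]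
    rw [(hFmem _).mp x.2]; group
  let Φ : F → {m : N.subgroupOf H // m ≠ ⟨n, hn⟩} := fun x => ⟨⟨_, hΦ x⟩, fun e =>
    hno x.1 (by
      have e' : g⁻¹ * (x.1 * g * x.1⁻¹) = n := congrArg Subtype.val e
      rw [← e', mul_inv_cancel_left])⟩
  have hle : Nat.card F ≤ Nat.card {m : N.subgroupOf H // m ≠ ⟨n, hn⟩} *
      Nat.card (centralizer ({g} : Set H)) := by
    rw [← Nat.card_prod]
    refine Nat.card_le_card_of_injective (fun x =>
      (Φ x, ⟨((Function.invFun Φ (Φ x) : F) : H)⁻¹ * x.1, ?_⟩)) fun a b hab => ?_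
    · set s := Function.invFun Φ (Φ x)
      have hs : g⁻¹ * (s.1 * g * s.1⁻¹) = g⁻¹ * (x.1 * g * x.1⁻¹) :=
        congrArg (fun m : {m : N.subgroupOf H // m ≠ ⟨n, hn⟩} => (m.1 : H))
          (Function.invFun_eq (f := Φ) ⟨x, rfl⟩)
      have hs' := mul_left_cancel hs
      refine mem_centralizer_singleton_iff.mpr ?_
      calc s.1⁻¹ * x.1 * g = s.1⁻¹ * (x.1 * g * x.1⁻¹) * x.1 := by group
        _ = s.1⁻¹ * (s.1 * g * s.1⁻¹) * x.1 := by rw [hs']
        _ = _ := by group
    · have h1 : Φ a = Φ b := congrArg Prod.fst hab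
      have h2 := congrArg (fun q : _ × centralizer ({g} : Set H) => (q.2 : H)) hab
      simp only [h1] at h2
      exact Subtype.ext (mul_left_cancel h2)
  have hcent : Nat.card (centralizer ({g} : Set H)) ≤ Nat.card C' := by
    rw [← hC.card_centralizer (g := (g : G)) (fun h => hg h)]
    exact Nat.card_le_card_of_injective
      (fun x => ⟨(x.1 : G), mem_centralizer_singleton_iff.mpr
        (congrArg Subtype.val (mem_centralizer_singleton_iff.mp x.2))⟩)
      fun a b e => Subtype.ext (Subtype.ext (congrArg Subtype.val e :))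
  rw [hFcard] at hle
  have hlt : Nat.card {m : N.subgroupOf H // m ≠ ⟨n, hn⟩} < Nat.card (N.subgroupOf H) :=
    Finite.card_subtype_lt (x := (⟨n, hn⟩ : N.subgroupOf H)) (by simp)
  have hpos : 0 < Nat.card C' := Nat.card_pos
  exact absurd (hle.trans (Nat.mul_le_mul_left _ hcent))
    (not_le.mpr (Nat.mul_lt_mul_of_pos_right hlt hpos))

/-- An element outside the kernel of order prime to a normal subgroup `L` of it centralizes
nothing in `L`. -/
theorem inf_centralizer_eq_bot (hC : IsCamina N) {L : Subgroup G} (hLN : L ≤ N) {g : G}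
    (hg : g ∉ N) (hcop : (orderOf g).Coprime (Nat.card L)) : L ⊓ centralizer {g} = ⊥ := by
  rw [eq_bot_iff_forall]
  rintro z ⟨hzL, hzc⟩
  by_contra hz1
  obtain ⟨s, hs, hsz⟩ := Nat.exists_prime_and_dvd (mt orderOf_eq_one_iff.mp hz1)
  have hso : orderOf (z ^ (orderOf z / s)) = s := by
    rw [orderOf_pow_of_dvd (Nat.div_pos (Nat.le_of_dvd (orderOf_pos z) hsz) hs.pos).ne'
      (Nat.div_dvd_of_dvd hsz), Nat.div_div_self hsz (orderOf_pos z).ne']
  have hcz : Commute g z := (mem_centralizer_singleton_iff.mp hzc).symm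
  have hm := L.pow_mem hzL (orderOf z / s)
  have hsg := hC.prime_dvd hg (hLN hm) (hcz.pow_right _).eq hs hso
  exact hs.ne_one (Nat.eq_one_of_dvd_coprimes hcop hsg (by
    rw [← hso, ← Subgroup.orderOf_mk _ hm]
    exact orderOf_dvd_natCard _))

/-- A prime dividing both index and kernel: a perfect nontrivial `L` with prime power index in `G`
cannot lie in the kernel. -/
theorem not_dvd_of_perfect (hC : IsCamina N) (hN : N ≠ ⊤) {p : ℕ} [Fact p.Prime] (P : Sylow p G)
    {L : Subgroup G} [L.Normal] (hLN : L ≤ N) (hperf : commutator L = ⊤)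
    (hLP : L ⊔ (P : Subgroup G) = ⊤) : ¬ p ∣ Nat.card L := by
  classical
  haveI := Fintype.ofFinite G
  haveI := Fintype.ofFinite L
  haveI := Fintype.ofFinite N
  intro hd
  obtain ⟨⟨θ, hθ⟩, hθ1, hθp, hθfix⟩ := exists_invariant_irr (N := L) P hd
  simp only at hθ1 hθp hθfix
  set d := charDegree θ
  have hd1 : θ 1 = d := Cfsg.Agent.Block.charDeg_spec' (⟨θ, hθ⟩ : IrrCharacter L)
  have hfix : ∀ g : G, conjN L g θ = θ := fun g => by
    obtain ⟨a, ha, b, hb, rfl⟩ := mem_sup_of_normal_left.mp (hLP.ge (mem_top g))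
    rw [conjN_mul, conjN_mem L (IsIrr.classFun hθ) ha, hθfix b hb]
  obtain ⟨l, hl⟩ := isCharacter_detChar hθ
  have hl1 : ∀ x : L, l x = 1 := fun x =>
    Abelianization.commutator_subset_ker l (hperf.ge (mem_top x))
  have hdet : orderOf (detChar θ) = 1 := by
    rw [orderOf_eq_one_iff, hl]
    exact funext fun x => by simp [hl1 x]
  obtain ⟨k, hk⟩ := PPrime.relIndex_sup_pow P L
  rw [hLP, relIndex_top_right] at hk
  have hcop : Nat.Coprime L.index (orderOf (detChar θ) * d) := by
    rw [hdet, one_mul, hk]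
    exact Nat.Coprime.pow_left _ ((Fact.out : p.Prime).coprime_iff_not_dvd.mpr hθp)
  obtain ⟨ψ, hψ, hψres⟩ := Char.Ext.exists_extension_of_witness (N := L) hθ
    (fun g x => congrFun (hfix g) x) hd1 fun q hq => Char.Ext.witness_of_coprime hθ hcop hq
  have hker : ∃ n : N, ψ n ≠ ψ 1 := by
    by_contra hno
    push Not at hno
    refine hθ1 (irr_const_eq_one hθ fun x => ?_)
    rw [← hψres, ← hψres]
    exact hno ⟨x, hLN x.2⟩
  -- the restriction to the kernel is irreducible
  have hres : IsCharacter N (fun x : N => ψ x) := IsChar.res (IsIrr.isCharacter hψ) N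
  obtain ⟨⟨φ, hφ⟩, hφc⟩ := IsChar.exists_constituent' hres (IsIrr.one_ne_zero hψ)
  obtain ⟨e, -, he⟩ := IsIrr.one_eq_pos hφ
  have hφd : d ≤ e := by
    have hφL : IsCharacter L (fun x : L => φ (inclusion hLN x)) :=
      IsChar.comp (inclusion hLN) (IsIrr.isCharacter hφ)
    obtain ⟨⟨μ, hμ⟩, hμc⟩ := IsChar.exists_constituent' hφL (IsIrr.one_ne_zero hφ)
    have h1 := constituent_trans (inclusion hLN) hres hφ hφc hμ hμc
    have e1 : (fun x : L => ψ ((inclusion hLN x : N) : G)) = θ := funext fun x => hψres x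
    rw [e1] at h1
    have hμθ : μ = θ := by
      by_contra hne
      exact h1 (classInner_irr_ne hθ hμ (Ne.symm hne))
    subst hμθ
    exact degree_le_of_constituent hφL hμ hμc he hd1
  have he' : e ≤ d := degree_le_of_constituent hres hφ hφc
    (show ψ ((1 : N) : G) = d from (hψres 1).trans hd1) he
  have hirr : IsIrrCharacter N (fun x : N => ψ x) := by
    rw [eq_of_constituent_degree hres hφ hφc (by
      rw [he, le_antisymm he' hφd]; exact (hψres 1).trans hd1)]
    exact hφ
  -- the norms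
  have h1 := classInner_self_irr hψ
  have h2 := classInner_self_irr hirr
  simp only [classInner] at h1 h2
  rw [inv_mul_eq_iff_eq_mul₀ (Nat.cast_ne_zero.mpr Nat.card_pos.ne'), mul_one] at h1 h2
  rw [← Finset.sum_subset (Finset.subset_univ (Finset.univ.filter (· ∈ N))) (fun g _ hg => by
    rw [hC.char_eq_zero hψ hker (by simpa using hg), zero_mul]),
    Finset.sum_subtype (p := (· ∈ N)) _ (fun g => by simp), h2] at h1
  refine hN (eq_top_of_card_eq N ?_)
  exact_mod_cast h1

/-- No Sylow subgroup can act on a `p'`-subgroup of the kernel as required, unless that subgroup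
is solvable. -/
theorem isSolvable_of_coprime (hC : IsCamina N) (hN : N ≠ ⊤) {p : ℕ} [hp : Fact p.Prime]
    (P : Sylow p G) {L : Subgroup G} [L.Normal] (hLN : L ≤ N) (hNP : N ⊔ (P : Subgroup G) = ⊤)
    (hL : ¬ p ∣ Nat.card L) : Group.IsSolvable L := by
  classical
  by_contra hns
  have hp2 : p ≠ 2 := fun e => hns (Grp.FT.odd_order_of
    (fun H _ _ hH => Grp.FT.noMinSimpleOdd H hH) L
    (Nat.odd_iff.mpr (by subst e; omega)))
  have hnn : ¬ Group.IsNilpotent L := fun h => hns (@IsNilpotent.to_isSolvable _ _ h)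
  set P0 := N.subgroupOf (P : Subgroup G) with hP0def
  haveI : P0.Normal := Subgroup.Normal.subgroupOf inferInstance _
  have hCP : IsCamina P0 := isCamina_subgroupOf hC hNP
  have hPp : IsPGroup p (P : Subgroup G) := P.2
  have hcop : (Nat.card (P : Subgroup G)).Coprime (Nat.card L) := by
    obtain ⟨k, hk⟩ := IsPGroup.iff_card.mp hPp
    rw [hk]
    exact (hp.out.coprime_iff_not_dvd.mpr hL).pow_left k
  have hfix : ∀ g : (P : Subgroup G), g ∉ P0 → L ⊓ centralizer {(g : G)} = ⊥ := fun g hg =>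
    inf_centralizer_eq_bot hC hLN hg (hcop.coprime_dvd_left (by
      rw [Subgroup.orderOf_coe]; exact orderOf_dvd_natCard g))
  have hP0top : P0 ≠ ⊤ := fun e => hN (top_le_iff.mp (hNP ▸ sup_le le_rfl (subgroupOf_eq_top.mp e)))
  by_cases hcyc : IsCyclic ((P : Subgroup G) ⧸ P0)
  · -- then `P0 = ⊥` and some element of order `p` lies outside the kernel
    obtain ⟨c, hc⟩ := hcyc.exists_generator
    obtain ⟨g, rfl⟩ := QuotientGroup.mk_surjective c
    have hgP0 : g ∉ P0 := fun h => hP0top (eq_top_iff.mpr fun x _ => by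
      obtain ⟨i, hi⟩ := hc (x : (P : Subgroup G) ⧸ P0)
      rw [← QuotientGroup.eq_one_iff, ← hi]
      simp [(QuotientGroup.eq_one_iff g).mpr h])
    have h1 := card_eq_inf_mul_map P0 (centralizer ({g} : Set (P : Subgroup G)))
    rw [hCP.card_centralizer hgP0] at h1
    have hQ : ∀ H : Subgroup ((P : Subgroup G) ⧸ P0), ((g : (P : Subgroup G) ⧸ P0)) ∈ H → H = ⊤ :=
      fun H h => eq_top_iff.mpr fun x _ => zpowers_le.mpr h (hc x)
    rw [hQ _ (mem_centralizer_singleton_iff.mpr rfl),
      hQ _ (mem_map_of_mem _ (mem_centralizer_singleton_iff.mpr rfl) :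
        (g : (P : Subgroup G) ⧸ P0) ∈ (centralizer ({g} : Set (P : Subgroup G))).map
          (QuotientGroup.mk' P0))] at h1
    have hbot : centralizer ({g} : Set (P : Subgroup G)) ⊓ P0 = ⊥ :=
      Subgroup.card_eq_one.mp ((mul_eq_right₀ Nat.card_pos.ne').mp h1.symm)
    have hP0 : P0 = ⊥ := by
      by_contra hne
      haveI := hPp.isNilpotent
      refine Grp.inf_center_ne_bot P0 hne ((eq_bot_iff_forall _).mpr fun z hz => ?_)
      have : z ∈ centralizer ({g} : Set (P : Subgroup G)) ⊓ P0 :=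
        ⟨mem_centralizer_singleton_iff.mpr (mem_center_iff.mp hz.2 g).symm, hz.1⟩
      rwa [hbot, mem_bot] at this
    have hPd : p ∣ Nat.card (P : Subgroup G) := by
      obtain ⟨k, hk⟩ := IsPGroup.iff_card.mp hPp
      rcases Nat.eq_zero_or_pos k with e | e
      · refine absurd (eq_top_iff.mpr fun x _ => ?_) hP0top
        rw [e, pow_zero] at hk
        haveI := (Nat.card_eq_one_iff_unique.mp hk).1
        exact Subsingleton.elim (1 : (P : Subgroup G)) x ▸ one_mem P0
      · exact hk ▸ dvd_pow_self p e.ne'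
    obtain ⟨b, hb⟩ := exists_prime_orderOf_dvd_card' (G := (P : Subgroup G)) p hPd
    have hbP0 : b ∉ P0 := fun h => by
      rw [hP0, mem_bot] at h
      rw [h, orderOf_one] at hb
      exact hp.out.ne_one hb.symm
    refine hnn (Grp.isNilpotent_of_fpf (p := p) (b := (b : G)) ?_
      (le_normalizer_of_normal (mem_top (b : G))) (hfix b hbP0))
    have h := pow_orderOf_eq_one (b : G)
    rwa [Subgroup.orderOf_coe, hb] at h
  -- a module in coprime characteristic
  obtain ⟨r, hr, hrL⟩ := Nat.exists_prime_and_dvd (n := Nat.card L) fun h => hns (by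
    haveI := (Nat.card_eq_one_iff_unique.mp h).1
    infer_instance)
  haveI := Fact.mk hr
  have hrp : r ≠ p := fun e => hL (e ▸ hrL)
  obtain ⟨R, hR, hPR⟩ := Grp.exists_invariant_sylow (P : Subgroup G) L le_normalizer_of_normal
    hcop (Or.inl (@IsNilpotent.to_isSolvable _ _ hPp.isNilpotent)) r
  have hRne : R ≠ ⊥ := fun e => hR.2.2 (by rw [e, relIndex_bot_left]; exact hrL)
  have hRn : R.subgroupOf (normalizer (R : Set G)) |>.Normal := normal_in_normalizer
  set X := normalizer (R : Set G)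
  haveI := hRn
  set V := R.subgroupOf X
  have hVr : IsPGroup r V := IsPGroup.of_equiv hR.2.1 (subgroupOfEquivOfLe le_normalizer).symm
  obtain ⟨M, hM⟩ := exists_isPModular r hr
  haveI := hM.2.1
  letI := Ideal.Quotient.field M
  haveI : CharP (AlgInt ⧸ M) r := by
    obtain ⟨q, hq⟩ := CharP.exists (AlgInt ⧸ M)
    have hr0 : ((r : ℕ) : AlgInt ⧸ M) = 0 := by
      rw [← map_natCast (Ideal.Quotient.mk M), Ideal.Quotient.eq_zero_iff_mem]
      exact hM.2.2
    rcases (Nat.dvd_prime hr).mp ((CharP.cast_eq_zero_iff (AlgInt ⧸ M) q r).mp hr0) with h1 | h1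
    · subst h1; exact (CharP.char_ne_one (AlgInt ⧸ M) 1 rfl).elim
    · subst h1; exact hq
  let ι : (P : Subgroup G) →* X := inclusion hPR
  let ρ := (Grp.dualRep V (AlgInt ⧸ M)).comp ι
  haveI := Fintype.ofFinite (P : Subgroup G)
  have hrP : ¬ r ∣ Nat.card (P : Subgroup G) := fun h =>
    hr.ne_one (Nat.eq_one_of_dvd_coprimes hcop h hrL)
  have hP0k : ((Nat.card (P : Subgroup G)) : AlgInt ⧸ M) ≠ 0 := by
    rw [ne_eq, CharP.cast_eq_zero_iff _ r]; exact hrP
  have hVc : ∀ g : (P : Subgroup G), g ∉ P0 → V ⊓ centralizer {ι g} = ⊥ := fun g hg => by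
    rw [eq_bot_iff_forall]
    rintro z ⟨hzV, hzc⟩
    have hz : (z : G) ∈ L ⊓ centralizer {(g : G)} :=
      ⟨hR.1 hzV, mem_centralizer_singleton_iff.mpr
        (congrArg Subtype.val (mem_centralizer_singleton_iff.mp hzc))⟩
    rw [hfix g hg, mem_bot] at hz
    exact Subtype.ext hz
  haveI : Nontrivial (Additive V →+ AlgInt ⧸ M) := by
    by_contra hsub
    rw [not_nontrivial_iff_subsingleton] at hsub
    have hQ : ¬ r ∣ Nat.card ((P : Subgroup G).subgroupOf X) := by
      rw [Nat.card_congr (subgroupOfEquivOfLe hPR).toEquiv]; exact hrP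
    have hcen := Grp.le_centralizer_of_dual (k := AlgInt ⧸ M) hVr hQ fun x _ =>
      LinearMap.ext fun f => Subsingleton.elim _ _
    obtain ⟨g, hg⟩ : ∃ g : (P : Subgroup G), g ∉ P0 := by
      by_contra hh
      push Not at hh
      exact hP0top (eq_top_iff.mpr fun x _ => hh x)
    refine hRne ((eq_bot_iff_forall _).mpr fun z hz => ?_)
    have hz' : (⟨z, le_normalizer hz⟩ : X) ∈ V ⊓ centralizer {ι g} :=
      ⟨hz, mem_centralizer_singleton_iff.mpr
        (mem_centralizer_iff.mp (hcen (x := ι g) g.2) ⟨z, le_normalizer hz⟩ hz)⟩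
    rw [hVc g hg, mem_bot] at hz'
    exact congrArg Subtype.val hz'
  obtain ⟨ψ, hψ, hψfpf⟩ := exists_fpf_character (P0 := P0) (Ideal.Quotient.mk M) ρ hP0k
    fun g hg f hf => Grp.dual_fixed_eq_zero (b := ι g) (by
      refine Nat.Coprime.coprime_dvd_left (orderOf_map_dvd ι g)
        (Nat.Coprime.coprime_dvd_left (orderOf_dvd_natCard g) ?_)
      obtain ⟨k, hk⟩ := IsPGroup.iff_card.mp hVr
      rw [hk]
      exact (hr.coprime_iff_not_dvd.mpr hrP).symm.pow_right k) (hVc g hg) hf
  exact no_fpf_character hp2 hPp hCP hcyc hψ hψfpf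

theorem isSolvable_kernel : ∀ (n : ℕ) (G : Type u) [Group G] [Finite G], Nat.card G = n →
    ∀ (N : Subgroup G) [N.Normal], N ≠ ⊤ → IsCamina N → Group.IsSolvable N := by
  intro n
  induction n using Nat.strong_induction_on with
  | _ n IH =>
  intro G _ _ hn N _ hN hC
  classical
  by_contra hns
  have hbot : N ≠ ⊥ := fun e => hns (by subst e; infer_instance)
  -- no solvable normal subgroup inside the kernel
  have hmin : ∀ M : Subgroup G, M.Normal → M ≤ N → M ≠ ⊥ → ¬ Group.IsSolvable M := by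
    intro M hMn hMN hMne hMs
    haveI := hMn
    set π := QuotientGroup.mk' M
    haveI : (N.map π).Normal := Subgroup.Normal.map ‹_› π (QuotientGroup.mk'_surjective M)
    have hker : π.ker ≤ N := by rw [QuotientGroup.ker_mk']; exact hMN
    have hq := IH _ (hn ▸ Grp.card_quotient_lt hMne) (G ⧸ M) rfl (N.map π) (fun e => hN (by
      rw [← comap_map_eq_self hker, e, comap_top])) (hC.map M)
    haveI := hMs
    haveI := hq
    exact hns (Group.isSolvable_of_ker_le_range (inclusion hMN) (π.subgroupMap N) fun x hx =>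
      ⟨⟨(x : G), (QuotientGroup.eq_one_iff _).mp (congrArg Subtype.val hx)⟩, rfl⟩)
  -- a perfect normal subgroup inside the kernel
  obtain ⟨L, hL, hLmin⟩ := (Set.toFinite {L : Subgroup G | L.Normal ∧ L ≤ N ∧ L ≠ ⊥}).exists_minimal
    ⟨N, ‹_›, le_rfl, hbot⟩
  obtain ⟨hLn, hLN, hLne⟩ := hL
  haveI := hLn
  have hLns := hmin L hLn hLN hLne
  have hperf : commutator L = ⊤ := by
    by_contra hne
    set D := (commutator L).map L.subtype
    have hDL : D ≤ L := map_subtype_le _
    rcases eq_or_ne D ⊥ with e | e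
    · refine hLns ?_
      rw [map_eq_bot_iff_of_injective _ L.subtype_injective] at e
      exact Group.isSolvable_of_comm fun a b => by
        have h : ⁅a, b⁆ ∈ commutator L := commutator_mem_commutator (mem_top a) (mem_top b)
        rw [e, mem_bot] at h
        exact commutatorElement_eq_one_iff_mul_comm.mp h
    · have hLD : L ≤ D := hLmin ⟨Grp.normal_of_characteristic_map _, hDL.trans hLN, e⟩ hDL
      exact hne (eq_top_iff.mpr fun x _ => by
        obtain ⟨y, hy, hyx⟩ := hLD x.2
        rwa [← Subtype.ext hyx])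
  rcases hC.trichotomy hN with hF | hNp | hIp
  · -- Frobenius
    obtain ⟨r, hr, hrI⟩ := Nat.exists_prime_and_dvd (mt index_eq_one.mp hN)
    haveI := Fact.mk hr
    obtain ⟨c, hc⟩ := exists_prime_orderOf_dvd_card' (G := G ⧸ N) r hrI
    obtain ⟨g, rfl⟩ := QuotientGroup.mk_surjective c
    have hg : g ∉ N := fun h => by
      rw [(QuotientGroup.eq_one_iff g).mpr h, orderOf_one] at hc
      exact hr.ne_one hc.symm
    have hgr : g ^ r = 1 := by
      by_contra hne
      have hm : g ^ r ∈ N := by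
        rw [← QuotientGroup.eq_one_iff, QuotientGroup.mk_pow, ← hc, pow_orderOf_eq_one]
      exact hg (hF _ hm hne (mem_centralizer_singleton_iff.mpr ((Commute.refl g).pow_right r).eq))
    have hfpf : N ⊓ centralizer {g} = ⊥ := by
      rw [eq_bot_iff_forall]
      rintro z ⟨hzN, hzc⟩
      by_contra hz1
      exact hg (hF z hzN hz1 (mem_centralizer_singleton_iff.mpr
        (mem_centralizer_singleton_iff.mp hzc).symm))
    exact hns (@IsNilpotent.to_isSolvable _ _
      (Grp.isNilpotent_of_fpf hgr (le_normalizer_of_normal (mem_top g)) hfpf))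
  · obtain ⟨q, k, hq, -, hk⟩ := hNp
    haveI := Fact.mk hq.nat_prime
    exact hns (@IsNilpotent.to_isSolvable _ _ (IsPGroup.of_card hk.symm).isNilpotent)
  obtain ⟨p, k, hp', -, hk⟩ := hIp
  have hp := hp'.nat_prime
  haveI := Fact.mk hp
  obtain ⟨P⟩ : Nonempty (Sylow p G) := inferInstance
  have hNP : N ⊔ (P : Subgroup G) = ⊤ := by
    rw [← index_eq_one]
    obtain ⟨j, -, hj⟩ := (Nat.dvd_prime_pow hp).mp (hk ▸ index_dvd_of_le
      (le_sup_left : N ≤ N ⊔ (P : Subgroup G)))
    rcases Nat.eq_zero_or_pos j with e | e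
    · rw [hj, e, pow_zero]
    · exact absurd ((dvd_pow_self p e.ne').trans (hj ▸ index_dvd_of_le
        (le_sup_right : (P : Subgroup G) ≤ N ⊔ (P : Subgroup G)))) P.not_dvd_index
  have hLP : L ⊔ (P : Subgroup G) = ⊤ := by
    by_contra hne
    set H := L ⊔ (P : Subgroup G)
    have hH : N ⊔ H = ⊤ := top_le_iff.mp (hNP ▸ sup_le_sup_left le_sup_right N)
    haveI : (N.subgroupOf H).Normal := Subgroup.Normal.subgroupOf inferInstance _
    have hs := IH _ (hn ▸ Grp.card_lt_of_ne_top hne) H rfl (N.subgroupOf H)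
      (fun e => hN (top_le_iff.mp (hH ▸ sup_le le_rfl (subgroupOf_eq_top.mp e))))
      (isCamina_subgroupOf hC hH)
    refine hLns (Grp.isSolvable_of_injective
      (({ toFun := fun x => ⟨⟨x.1, mem_sup_left x.2⟩, hLN x.2⟩
          map_one' := rfl
          map_mul' := fun _ _ => rfl } : L →* N.subgroupOf H)) (fun a b e => ?_) hs)
    exact Subtype.ext (congrArg (fun y : N.subgroupOf H => ((y : H) : G)) e)
  exact hLns (isSolvable_of_coprime hC hN P hLN hNP (not_dvd_of_perfect hC hN P hLN hperf hLP))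

end Cfsg.Agent.Fus.CaminaFpf
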